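import Groth.Agent.H78.PrincipalAlg.LCImage
import Groth.Agent.Lib.Depth.Basic

/-!
# The depth conditions for algebraisation along a principal ideal
-/

set_option autoImplicit false
set_option linter.style.haveILetI false
set_option linter.unusedSectionVars false

universe u

open CategoryTheory Groth.Agent.Lib.LCFin

attribute [local instance] HasDerivedCategory.standard

namespace Groth.Agent.H78.PrincipalAlg.DepthCond

open Groth.Agent.Lib

variable {A : Type u} [CommRing A] [IsNoetherianRing A] [IsLocalRing A] {f : A}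

lemma exists_pow_le_sup {J : Ideal A} {T : Set (PrimeSpectrum A)}
    (hJ : ∀ P : PrimeSpectrum A, J ≤ P.asIdeal → f ∈ P.asIdeal ∨ P ∈ T) :
    ∃ (c : ℕ) (J' : Ideal A), (∀ P : PrimeSpectrum A, J' ≤ P.asIdeal → ∃ Q ∈ T, Q ≤ P) ∧
      ∀ a ∈ J', f ^ c * a ∈ J := by
  classical
  let S := (Ideal.finite_minimalPrimes_of_isNoetherianRing A J).toFinset.filter fun P => ¬ f ∈ P
  let J₀ := ∏ P ∈ S, P
  have hle : Ideal.span {f} * J₀ ≤ J.radical := by
    rw [Ideal.radical_eq_sInf]
    refine le_sInf fun P ⟨hP, hPp⟩ => ?_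
    obtain ⟨Q, hQ, hQP⟩ := Ideal.exists_minimalPrimes_le hP
    refine le_trans ?_ hQP
    by_cases hf : f ∈ Q
    · exact le_trans Ideal.mul_le_left ((Ideal.span_singleton_le_iff_mem _).2 hf)
    · refine le_trans Ideal.mul_le_right (le_trans Ideal.prod_le_inf (Finset.inf_le (f := fun P => P) ?_))
      exact Finset.mem_filter.2 ⟨(Set.Finite.mem_toFinset _).2 hQ, hf⟩
  obtain ⟨c, hc⟩ := Ideal.exists_pow_le_of_le_radical_of_fg hle (IsNoetherian.noetherian _)
  refine ⟨c, J₀ ^ c, fun P hP => ?_, fun a ha => hc ?_⟩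
  · have hP' : J₀ ≤ P.asIdeal := by
      rcases Nat.eq_zero_or_pos c with hc0 | hc0
      · rw [hc0, pow_zero, Ideal.one_eq_top, top_le_iff] at hP
        exact absurd hP P.isPrime.ne_top
      · exact (P.isPrime.pow_le_iff hc0.ne').1 hP
    obtain ⟨Q, hQ, hQP⟩ := (Ideal.IsPrime.prod_le P.isPrime).1 hP'
    obtain ⟨hQ', hQf⟩ := Finset.mem_filter.1 hQ
    have hQmin := (Set.Finite.mem_toFinset _).1 hQ'
    exact ⟨⟨Q, hQmin.1.1⟩, (hJ ⟨Q, hQmin.1.1⟩ hQmin.1.2).resolve_left hQf, hQP⟩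
  · rw [mul_pow]
    exact Ideal.mul_mem_mul (Ideal.pow_mem_pow (Ideal.mem_span_singleton_self f) c) ha

lemma depth_quot (hnzd : f ∈ nonZeroDivisors A) (p : Ideal A) [p.IsPrime] (hfp : f ∈ p) :
    LocCoh.depth (Localization.AtPrime p) (LocalizedModule p.primeCompl (A ⧸ Ideal.span {f})) + 1 =
      LocCoh.depth (Localization.AtPrime p) (LocalizedModule p.primeCompl A) := by
  let e₀ : (A ⧸ Ideal.span {f}) ≃ₗ[A] QuotSMulTop f A := Submodule.quotEquivOfEq _ _ (by
    rw [← Submodule.ideal_span_singleton_smul, smul_eq_mul, ← Ideal.one_eq_top, mul_one])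
  let e₁ : LocalizedModule p.primeCompl (A ⧸ Ideal.span {f}) ≃ₗ[Localization.AtPrime p]
      LocalizedModule p.primeCompl (QuotSMulTop f A) :=
    IsLocalizedModule.mapEquiv p.primeCompl
      (LocalizedModule.mkLinearMap p.primeCompl (A ⧸ Ideal.span {f}))
      (LocalizedModule.mkLinearMap p.primeCompl (QuotSMulTop f A)) (Localization.AtPrime p) e₀
  rw [Depth.Basic.depth_congr (e₁.trans (Depth.CM.quotSMulTopLocalizedEquiv p A f))]
  refine Depth.SES.idealDepth_quotSMulTop (IsLocalRing.maximalIdeal (Localization.AtPrime p)) ?_ ?_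
  · exact (IsLocalization.AtPrime.to_map_mem_maximal_iff _ p f).2 hfp
  · have h0 : IsSMulRegular A f := fun x y hxy => sub_eq_zero.1 (hnzd.1 _ (by
      rw [mul_sub, sub_eq_zero]
      exact hxy))
    exact (LinearEquiv.isSMulRegular_congr
      ((IsLocalizedModule.linearEquiv p.primeCompl (Algebra.linearMap A (Localization.AtPrime p))
        (LocalizedModule.mkLinearMap p.primeCompl A)).extendScalarsOfIsLocalization p.primeCompl
          (Localization.AtPrime p)) _).1 (h0.of_flat (S := Localization.AtPrime p))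

lemma natCast_lt_of (d : ℕ∞) (D : WithBot ℕ∞) (n : ℕ) (h : (n : WithBot ℕ∞) < (d : WithBot ℕ∞) + D) :
    ((n + 1 : ℕ) : WithBot ℕ∞) < ((d + 1 : ℕ∞) : WithBot ℕ∞) + D := by
  induction D with
  | bot => simp at h
  | coe e =>
    have h' : (n : ℕ∞) < d + e := by exact_mod_cast h
    refine WithBot.coe_lt_coe.2 ?_
    show ((n + 1 : ℕ) : ℕ∞) < d + 1 + e
    induction d with
    | top => simp
    | coe a =>
      induction e with
      | top => simp
      | coe b =>
        have : n < a + b := by exact_mod_cast h'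
        exact_mod_cast (show n + 1 < a + 1 + b by omega)

variable (hω : ∃ ω : Dual.D A, Dual.IsDualizing A ω) (hnzd : f ∈ nonZeroDivisors A)
  (hf : f ∈ IsLocalRing.maximalIdeal A)
  (h₅ : ∀ (p : Ideal A) [p.IsPrime], f ∈ p → p ≠ IsLocalRing.maximalIdeal A →
    (1 : WithBot ℕ∞) < ((LocCoh.depth (Localization.AtPrime p)
      (LocalizedModule p.primeCompl (A ⧸ Ideal.span {f})) : ℕ∞) : WithBot ℕ∞) + ringKrullDim (A ⧸ p))
  (h₆ : ∀ (p : Ideal A) [p.IsPrime], f ∉ p →
    (∃ r : Ideal A, r.IsPrime ∧ p ≤ r ∧ f ∈ r ∧ r ≠ IsLocalRing.maximalIdeal A) →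
    (3 : WithBot ℕ∞) < ((LocCoh.depth (Localization.AtPrime p) (Localization.AtPrime p) : ℕ∞) :
      WithBot ℕ∞) + ringKrullDim (A ⧸ p))

include hω hnzd hf h₅ in
theorem finite_H_one : Module.Finite A (LocCoh.H (IsLocalRing.maximalIdeal A) 1 (A ⧸ Ideal.span {f})) := by
  obtain ⟨J, hJ, hk⟩ := LCImage.exists_kill hω LCImage.stable_singleton (A ⧸ Ideal.span {f}) 1
    fun p hp => by
      by_cases hfp : f ∈ p.asIdeal
      · exact_mod_cast h₅ p.asIdeal hfp fun h => hp (PrimeSpectrum.ext h)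
      · have : Subsingleton (LocalizedModule p.asIdeal.primeCompl (A ⧸ Ideal.span {f})) :=
          LocalizedModule.subsingleton_iff.2 fun m => ⟨f, hfp, by
            obtain ⟨z, rfl⟩ := Submodule.Quotient.mk_surjective _ m
            rw [← Submodule.Quotient.mk_smul, Submodule.Quotient.mk_eq_zero]
            exact Ideal.mem_span_singleton'.2 ⟨z, mul_comm z f⟩⟩
        rw [LocCoh.depth, LocCoh.idealDepth, if_pos (Subsingleton.elim _ _)]
        obtain ⟨D, hD⟩ := WithBot.ne_bot_iff_exists.1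
          (ringKrullDim_ne_bot (R := A ⧸ p.asIdeal))
        rw [← hD]
        exact WithBot.coe_lt_coe.2 (by simp)
  refine (Groth.Agent.S0329.result A (IsLocalRing.maximalIdeal A) (A ⧸ Ideal.span {f}) 1).2
    ⟨J, ?_, hk⟩ 1 le_rfl
  rw [Ideal.radical_eq_sInf]
  exact le_sInf fun P ⟨hP, hPp⟩ =>
    (congrArg PrimeSpectrum.asIdeal (Set.mem_singleton_iff.1 (hJ ⟨P, hPp⟩ hP))).ge

include hω hnzd hf h₅ h₆ in
theorem exists_finite_range : ∃ (c : ℕ)
    (E : Submodule A (LocCoh.H (IsLocalRing.maximalIdeal A) 2 (A ⧸ Ideal.span {f ^ 1}))),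
    Module.Finite A E ∧
      ∀ x : LocCoh.H (IsLocalRing.maximalIdeal A) 2 (A ⧸ Ideal.span {f ^ (c + 1)}),
        Seq.Hmap (IsLocalRing.maximalIdeal A) 2 (Submodule.factor
          ((Ideal.span_singleton_le_span_singleton).2 (pow_dvd_pow f (Nat.le_add_left 1 c)))) x ∈ E := by
  have hdep : ∀ p : PrimeSpectrum A, LocCoh.depth (Localization.AtPrime p.asIdeal)
      (LocalizedModule p.asIdeal.primeCompl A) =
      LocCoh.depth (Localization.AtPrime p.asIdeal) (Localization.AtPrime p.asIdeal) := fun p =>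
    Depth.Basic.depth_congr
      ((IsLocalizedModule.linearEquiv p.asIdeal.primeCompl (LocalizedModule.mkLinearMap p.asIdeal.primeCompl A)
        (Algebra.linearMap A (Localization.AtPrime p.asIdeal))).extendScalarsOfIsLocalization
          p.asIdeal.primeCompl _)
  have hbad : ∀ p : PrimeSpectrum A, p ∉ LCImage.badSet f → f ∉ p.asIdeal →
      (3 : WithBot ℕ∞) < ((LocCoh.depth (Localization.AtPrime p.asIdeal)
        (LocalizedModule p.asIdeal.primeCompl A) : ℕ∞) : WithBot ℕ∞) + ringKrullDim (A ⧸ p.asIdeal) :=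
    fun p hp hfp => by
      rw [hdep]
      simp only [LCImage.badSet, Set.mem_ofPred_eq, not_forall] at hp
      obtain ⟨r, hpr, hfr, hr⟩ := hp
      exact h₆ p.asIdeal hfp ⟨r.asIdeal, r.isPrime, hpr, hfr, fun h => hr (PrimeSpectrum.ext h)⟩
  obtain ⟨J₂, hJ₂, hk₂⟩ := LCImage.exists_kill hω (LCImage.stable_badSet f) A 2 fun p hp => by
    by_cases hfp : f ∈ p.asIdeal
    · rw [← depth_quot hnzd p.asIdeal hfp]
      have hne : p.asIdeal ≠ IsLocalRing.maximalIdeal A := fun h => hp fun r hr _ =>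
        le_antisymm (IsLocalRing.le_maximalIdeal r.isPrime.ne_top) (h.ge.trans hr)
      exact natCast_lt_of _ _ 1 (by exact_mod_cast h₅ p.asIdeal hfp hne)
    · exact lt_of_le_of_lt (by exact_mod_cast (show 2 ≤ 3 by omega)) (hbad p hp hfp)
  obtain ⟨J₃, hJ₃, hk₃⟩ := LCImage.exists_kill hω (T' := {p | f ∈ p.asIdeal} ∪ LCImage.badSet f)
    (fun p p' h hp => hp.elim (fun h' => Or.inl (((PrimeSpectrum.le_iff_specializes p p').2 h) h'))
      fun h' => Or.inr (LCImage.stable_badSet f h h')) A 3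
    fun p hp => by
      simp only [Set.mem_union, Set.mem_ofPred_eq, not_or] at hp
      exact_mod_cast hbad p hp.2 hp.1
  obtain ⟨c, J', hJ', hfJ'⟩ := exists_pow_le_sup (T := LCImage.badSet f) hJ₃
  refine ⟨c, LCImage.exists_finite_range_one hnzd J₂ J' (fun P hP hfP => hJ₂ P hP P le_rfl hfP)
    (fun P hP hfP => ?_) (hk₂ 2 le_rfl) c fun a ha => hk₃ 3 le_rfl _ (hfJ' a ha)⟩
  obtain ⟨Q, hQ, hQP⟩ := hJ' P hP
  exact hQ P hQP hfP

end Groth.Agent.H78.PrincipalAlg.DepthCond
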