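import Groth.Agent.H78.FormalFun.Principal
import Groth.Agent.H78.Formal.Sys
import Groth.Agent.Lib.Adic.Complete
import Groth.Agent.Lib.ProperFin.Finite

/-!
# Sections of a formal module regular for a principal ideal

If the cohomology of the bottom term is finite in degrees `0` and `1`, the sections of the terms
satisfy a uniform Mittag-Leffler condition and the compatible sections form a finite module.
-/

set_option autoImplicit false
set_option linter.style.haveILetI false
set_option linter.unusedSectionVars false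

noncomputable section

universe u

open CategoryTheory CategoryTheory.Limits AlgebraicGeometry Opposite TopologicalSpace

namespace Groth.Agent.H78.PrincipalAlg

open Groth.Agent.Lib Groth.Agent.H78.Formal.Sections Groth.Agent.Lib.Curves.LES
open Groth.Agent.H78.FormalFun.Basic (H H_comp H_zero H_smulMod)
open Groth.Agent.H78.Formal.Principal (smulMod_mul)

variable {A : Type u} [CommRing A] {X : Scheme.{u}} [X.Over (Spec (CommRingCat.of A))]
  (f : A) (G : ℕᵒᵖ ⥤ X.Modules)

/-- `f` is regular on the system: what it kills in a level comes from the bottom. -/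
def IsRegularSys : Prop :=
  ∀ (n : ℕ) (W : X.Opens), IsAffineOpen W → ∀ x : Γ(G.obj (op (n + 1)), W),
    sMap A W f • x = 0 →
      x ∈ sIdeal (Ideal.span {f}) W ^ (n + 1) • (⊤ : Submodule Γ(X, W) Γ(G.obj (op (n + 1)), W))

/-- The transition maps. -/
abbrev t {n m : ℕ} (h : n ≤ m) : G.obj (op m) ⟶ G.obj (op n) := G.map (homOfLE h).op

lemma t_t {n m l : ℕ} (h : n ≤ m) (h' : m ≤ l) : t G h' ≫ t G h = t G (h.trans h') := by
  rw [t, t, t, ← G.map_comp]
  rfl

lemma t_refl (n : ℕ) (h : n ≤ n) : t G h = 𝟙 (G.obj (op n)) := G.map_id _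

section Step

variable {f G} (hG : _root_.Formal.IsCohFormal (Ideal.span {f}) G) (hr : IsRegularSys f G)

lemma mem_span_pow_smul {M : X.Modules} {W : X.Opens} (n : ℕ) (x : Γ(M, W)) :
    x ∈ sIdeal (Ideal.span {f}) W ^ n • (⊤ : Submodule Γ(X, W) Γ(M, W)) ↔
      ∃ w, x = sMap A W f ^ n • w := by
  rw [show sIdeal (Ideal.span {f}) W = Ideal.span {sMap A W f} by
      rw [sIdeal, Ideal.map_span, Set.image_singleton],
    Ideal.span_singleton_pow, Submodule.ideal_span_singleton_smul, Submodule.mem_smul_pointwise_iff_exists]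
  exact ⟨fun ⟨w, _, h⟩ => ⟨w, h.symm⟩, fun ⟨w, h⟩ => ⟨w, trivial, h.symm⟩⟩

include hG in
lemma exists_incl (n : ℕ) : ∃ i : G.obj (op n) ⟶ G.obj (op (n + 1)),
    t G (Nat.le_succ n) ≫ i = _root_.Formal.smulMod A (G.obj (op (n + 1))) f := by
  haveI := (hG.1 n).1
  haveI := (hG.1 (n + 1)).1
  haveI := Formal.Sys.epi_map hG (Nat.le_succ n)
  refine Formal.Sys.exists_desc (t G (Nat.le_succ n)) _ fun W hW s hs => ?_
  obtain ⟨w, rfl⟩ := (mem_span_pow_smul (n + 1) s).1 (((Formal.Sys.succ_spec hG n hW).2 s).1 hs)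
  rw [smulMod_app, smul_smul, ← pow_succ']
  have h := Formal.Sys.killed hG (n + 1) hW
  exact (Submodule.mem_bot Γ(X, W)).1 (h ▸ (mem_span_pow_smul (n + 1 + 1) _).2 ⟨w, rfl⟩)

/-- The map `G_n ⟶ G_{n+1}` induced by multiplication by `f`. -/
def incl (n : ℕ) : G.obj (op n) ⟶ G.obj (op (n + 1)) := (exists_incl hG n).choose

lemma t_incl (n : ℕ) :
    t G (Nat.le_succ n) ≫ incl hG n = _root_.Formal.smulMod A (G.obj (op (n + 1))) f :=
  (exists_incl hG n).choose_spec

lemma t_incl_app (n : ℕ) {W : X.Opens} (x : Γ(G.obj (op (n + 1)), W)) :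
    (incl hG n).app W ((t G (Nat.le_succ n)).app W x) = sMap A W f • x :=
  (ConcreteCategory.congr_hom (congrArg (fun χ => χ.app W) (t_incl hG n)) x).trans
    (smulMod_app _ f W x)

include hr in
lemma mono_incl (n : ℕ) : Mono (incl hG n) := by
  haveI := (hG.1 n).1
  haveI := (hG.1 (n + 1)).1
  refine mono_of_cover _ fun x => ?_
  obtain ⟨W, hW, hx⟩ := exists_affine x
  refine ⟨W, hW, hx, (injective_iff_map_eq_zero _).2 fun z hz => ?_⟩
  obtain ⟨s, rfl⟩ := (Formal.Sys.succ_spec hG n hW).1 z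
  exact ((Formal.Sys.succ_spec hG n hW).2 s).2 (hr n W hW s ((t_incl_app hG n s).symm.trans hz))

lemma incl_bottom (m : ℕ) : incl hG m ≫ t G (Nat.zero_le (m + 1)) = 0 := by
  haveI := Formal.Sys.epi_map hG (Nat.le_succ m)
  rw [← cancel_epi (t G (Nat.le_succ m)), ← Category.assoc, t_incl, comp_zero, smulMod_comp]
  refine (congrArg (t G (Nat.zero_le (m + 1)) ≫ ·) (hG.2.1 0 f ?_)).trans comp_zero
  rw [pow_one]
  exact Ideal.mem_span_singleton_self f

lemma incl_t (n : ℕ) : incl hG (n + 1) ≫ t G (Nat.le_succ (n + 1)) = t G (Nat.le_succ n) ≫ incl hG n := by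
  haveI := Formal.Sys.epi_map hG (Nat.le_succ (n + 1))
  rw [← cancel_epi (t G (Nat.le_succ (n + 1))), ← Category.assoc, t_incl, t_incl, smulMod_comp]

/-- Multiplication by `f^(k+1)` out of the bottom. -/
def up : ∀ k : ℕ, G.obj (op 0) ⟶ G.obj (op (k + 1))
  | 0 => incl hG 0
  | k + 1 => up k ≫ incl hG (k + 1)

lemma t_up (k : ℕ) :
    t G (Nat.zero_le (k + 1)) ≫ up hG k = _root_.Formal.smulMod A (G.obj (op (k + 1))) (f ^ (k + 1)) := by
  induction k with
  | zero => rw [show f ^ (0 + 1) = f from pow_one f]; exact t_incl hG 0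
  | succ k ih =>
    rw [up, ← t_t G (Nat.zero_le (k + 1)) (Nat.le_succ (k + 1)), Category.assoc,
      ← Category.assoc (t G (Nat.zero_le (k + 1))), ih, smulMod_comp, ← Category.assoc, t_incl,
      ← smulMod_mul, ← pow_succ']

lemma up_t (k : ℕ) : up hG k ≫ t G (Nat.le_succ k) = 0 := by
  induction k with
  | zero => exact incl_bottom hG 0
  | succ k ih => rw [up, Category.assoc, incl_t, ← Category.assoc, ih, zero_comp]

include hr in
lemma mono_up : ∀ k, Mono (up hG k)
  | 0 => mono_incl hG hr 0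
  | k + 1 => by
    haveI := mono_up k
    haveI := mono_incl hG hr (k + 1)
    exact mono_comp _ _

/-- The sequence `0 → G_0 → G_{k+1} → G_k → 0`. -/
abbrev seq (k : ℕ) : ShortComplex X.Modules := ShortComplex.mk _ _ (up_t hG k)

include hr in
lemma seq_shortExact (k : ℕ) : (seq hG k).ShortExact := by
  haveI := (hG.1 0).1
  haveI := (hG.1 k).1
  haveI := (hG.1 (k + 1)).1
  haveI := mono_up hG hr k
  haveI := Formal.Sys.epi_map hG (Nat.le_succ k)
  refine ShortComplex.ShortExact.mk' ?_ inferInstance inferInstance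
  refine (ShortComplex.exact_iff_kernel_ι_comp_cokernel_π_zero _).2 ?_
  haveI := QCoh.Closure.isQCoh_kernel (t G (Nat.le_succ k))
  refine hom_ext_affine fun W hW s => ?_
  set x := (kernel.ι (seq hG k).g).app W s with hx
  have h0 : (t G (Nat.le_succ k)).app W x = 0 :=
    ConcreteCategory.congr_hom (congrArg (fun χ => χ.app W) (kernel.condition (seq hG k).g)) s
  obtain ⟨w, hw⟩ := (mem_span_pow_smul (k + 1) x).1 (((Formal.Sys.succ_spec hG k hW).2 x).1 h0)
  have h1 : (up hG k).app W ((t G (Nat.zero_le (k + 1))).app W w) = x := by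
    refine (ConcreteCategory.congr_hom (congrArg (fun χ => χ.app W) (t_up hG k)) w).trans ?_
    rw [hw, smulMod_app, map_pow]
  show (cokernel.π (seq hG k).f).app W x = 0
  rw [← h1]
  exact ConcreteCategory.congr_hom (congrArg (fun χ => χ.app W) (cokernel.condition (seq hG k).f)) _

include hr in
lemma bottom_shortExact (m : ℕ) : (ShortComplex.mk _ _ (incl_bottom hG m)).ShortExact := by
  haveI := (hG.1 0).1
  haveI := (hG.1 m).1
  haveI := (hG.1 (m + 1)).1
  haveI := mono_incl hG hr m
  haveI := Formal.Sys.epi_map hG (Nat.zero_le (m + 1))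
  refine ShortComplex.ShortExact.mk' ?_ inferInstance inferInstance
  refine (ShortComplex.exact_iff_kernel_ι_comp_cokernel_π_zero _).2 ?_
  haveI := QCoh.Closure.isQCoh_kernel (t G (Nat.zero_le (m + 1)))
  refine hom_ext_affine fun W hW s => ?_
  set x := (kernel.ι (t G (Nat.zero_le (m + 1)))).app W s with hx
  have h0 : (t G (Nat.zero_le (m + 1))).app W x = 0 :=
    ConcreteCategory.congr_hom (congrArg (fun χ => χ.app W) (kernel.condition (t G (Nat.zero_le (m + 1))))) s
  obtain ⟨w, hw⟩ := (mem_span_pow_smul 1 x).1 (((Formal.Sys.map_spec hG (Nat.zero_le (m + 1)) hW).2 x).1 h0)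
  have h1 : (incl hG m).app W ((t G (Nat.le_succ m)).app W w) = x := by
    rw [t_incl_app, hw, pow_one]
  show (cokernel.π (incl hG m)).app W x = 0
  rw [← h1]
  exact ConcreteCategory.congr_hom (congrArg (fun χ => χ.app W) (cokernel.condition (incl hG m))) _

/-- The morphism from one sequence to the next. -/
def seqMap (k : ℕ) : seq hG k ⟶ seq hG (k + 1) where
  τ₁ := 𝟙 _
  τ₂ := incl hG (k + 1)
  τ₃ := incl hG k
  comm₁₂ := Category.id_comp _
  comm₂₃ := incl_t hG k

end Step

end Groth.Agent.H78.PrincipalAlg
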