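import Groth.Agent.H78.PrincipalAlg.Basic
import Groth.Agent.H78.PrincipalAlg.Split
import Groth.Agent.H78.PrincipalAlg.Step
import Groth.Agent.Lib.TensorMod.Basis
import Groth.Agent.Lib.CohBasics.Closure
import Groth.Agent.Lib.TensorMod.QCohInv
import Groth.Prelude.Def_Formal2

/-!
# Modules locally free over a quotient, on basic opens
-/

set_option autoImplicit false
set_option linter.style.haveILetI false
set_option linter.unusedSectionVars false

noncomputable section

universe u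

open CategoryTheory CategoryTheory.Limits AlgebraicGeometry Opposite TopologicalSpace

namespace Groth.Agent.H78.PrincipalAlg.Local

open Groth.Agent.Lib Groth.Agent.H78.Formal Groth.Agent.H78.Formal.Sections
open Groth.Agent.H78.PrincipalAlg.Basic (bo)

variable {A : Type u} [CommRing A] {U : (Spec (CommRingCat.of A)).Opens} {f : A}

/-- Near each point a module locally free over `O / f^n` has sections generating it with relations
in `(f^n)`. -/
theorem exists_local {n : ℕ} {M : (U : Scheme.{u}).Modules}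
    (hM : _root_.Formal2.IsFinLocFreeMod (Ideal.span {f}) n M) {W : (U : Scheme.{u}).Opens}
    (x : (U : Scheme.{u})) (hx : x ∈ W) :
    ∃ (g : A), PrimeSpectrum.basicOpen g ≤ U ∧ x ∈ bo U g ∧ bo U g ≤ W ∧
      ∃ (r : ℕ) (s : Fin r → Γ(M, bo U g)),
        (∀ v : Γ(M, bo U g), ∃ d : Fin r → Γ((U : Scheme.{u}), bo U g), v = ∑ k, d k • s k) ∧
        (∀ d : Fin r → Γ((U : Scheme.{u}), bo U g), ∑ k, d k • s k = 0 →
          ∀ k, ∃ d' : Γ((U : Scheme.{u}), bo U g), d k = sMap A (bo U g) f ^ n * d') := by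
  obtain ⟨V, r, hxV, ⟨i⟩⟩ := hM x
  let O : (Spec (CommRingCat.of A)).Opens := U.ι ''ᵁ (V ⊓ W)
  have hxO : (U.ι x : PrimeSpectrum A) ∈ O := ⟨x, ⟨hxV, hx⟩, rfl⟩
  obtain ⟨_, ⟨g, rfl⟩, hxg, hgO⟩ :=
    PrimeSpectrum.isTopologicalBasis_basic_opens.exists_subset_of_mem_open hxO O.isOpen
  have hgO' : PrimeSpectrum.basicOpen g ≤ O := hgO
  have hgU : PrimeSpectrum.basicOpen g ≤ U := hgO'.trans (U.ι_image_le _)
  have hle : bo U g ≤ V ⊓ W := by
    refine (show bo U g ≤ U.ι ⁻¹ᵁ O from U.ι.preimage_mono hgO').trans ?_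
    rw [show U.ι ⁻¹ᵁ O = V ⊓ W from U.ι.preimage_image_eq _]
  refine ⟨g, hgU, hxg, hle.trans inf_le_right, ?_⟩
  have hD : IsAffineOpen (bo U g) := Basic.isAffineOpen_bo hgU
  let E := FlatMod.freeMod (U : Scheme.{u}) r
  haveI := TensorMod.QCohInv.isQCoh_structureModule (U : Scheme.{u})
  haveI hE : E.IsQuasicoherent :=
    QCoh.Closure.isQCoh_of_isColimit (colimit.isColimit _) fun _ => TensorMod.QCohInv.isQCoh_structureModule (U : Scheme.{u})
  obtain ⟨θ, hθ⟩ := Basic.exists_sectionsEquiv i (hle.trans inf_le_left)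
  let q : Γ(E, (bo U g)) → Γ(M, (bo U g)) := fun z =>
    θ.symm ((_root_.Formal.modPowπ (Ideal.span {f}) n E).app (bo U g) z)
  have hqs : ∀ z, ∃ w, q w = z := fun z => by
    obtain ⟨w, hw⟩ := Sections.modPowπ_surjective (M := E) (Ideal.span {f}) n hD (θ z)
    exact ⟨w, (congrArg θ.symm hw).trans (θ.symm_apply_apply z)⟩
  have hθ' : ∀ (c : Γ((U : Scheme.{u}), (bo U g))) y, θ.symm (c • y) = c • θ.symm y := fun c y => by
    apply θ.injective
    rw [hθ, θ.apply_symm_apply, θ.apply_symm_apply]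
  have hq : ∀ (d : Fin r → Γ((U : Scheme.{u}), (bo U g))) (e : Fin r → Γ(E, (bo U g))),
      q (∑ k, d k • e k) = ∑ k, d k • q (e k) := fun d e => by
    simp only [q, map_sum, Scheme.Modules.Hom.app_smul, hθ']
  let e : Fin r → Γ(E, (bo U g)) := fun k =>
    E.presheaf.map (homOfLE (le_top : (bo U g) ≤ ⊤)).op (Modules.Free.gen (U : Scheme.{u}) k)
  have hb : Function.Bijective fun a : Fin r → Γ((U : Scheme.{u}), (bo U g)) => ∑ k, a k • e k :=
    TensorMod.Basis.isBasis_freeMod (U : Scheme.{u}) r (bo U g) le_top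
  refine ⟨r, fun k => q (e k), fun v => ?_, fun d hd k => ?_⟩
  · obtain ⟨w, rfl⟩ := hqs v
    obtain ⟨a, rfl⟩ := hb.2 w
    exact ⟨a, hq a e⟩
  · have h0 : (_root_.Formal.modPowπ (Ideal.span {f}) n E).app (bo U g) (∑ k, d k • e k) = 0 := by
      apply θ.symm.injective
      rw [map_zero]
      exact (hq d e).trans hd
    obtain ⟨w, hw⟩ := (mem_span_pow_smul n _).1
      ((Sections.modPowπ_eq_zero_iff (M := E) (Ideal.span {f}) n hD _).1 h0)
    obtain ⟨a, rfl⟩ := hb.2 w
    refine ⟨a k, congrFun (hb.1 (a₂ := fun k => sMap A (bo U g) f ^ n * a k) (hw.trans ?_)) k⟩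
    simp only [Finset.smul_sum, smul_smul]

/-- `f` is regular on a system of modules locally free over the quotients by its powers. -/
theorem isRegularSys (hf : f ∈ nonZeroDivisors A) (G : ℕᵒᵖ ⥤ (U : Scheme.{u}).Modules)
    (hG : _root_.Formal.IsCohFormal (Ideal.span {f}) G)
    (hfree : ∀ n : ℕ, _root_.Formal2.IsFinLocFreeMod (Ideal.span {f}) (n + 1) (G.obj (op n))) :
    IsRegularSys f G := by
  intro n W hW z hz
  haveI := (hG.1 (n + 1)).1
  have hne : ∀ x ∈ W, ∃ (g : A), x ∈ bo U g ∧ ∃ h : bo U g ≤ W, IsAffineOpen (bo U g) ∧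
      ∃ w, (G.obj (op (n + 1))).presheaf.map (homOfLE h).op z = sMap A (bo U g) f ^ (n + 1) • w := by
    intro x hx
    obtain ⟨g, hgU, hxg, hle, r, s, hsur, hrel⟩ := exists_local (hfree (n + 1)) x hx
    refine ⟨g, hxg, hle, Basic.isAffineOpen_bo hgU, ?_⟩
    obtain ⟨d, hd⟩ := hsur ((G.obj (op (n + 1))).presheaf.map (homOfLE hle).op z)
    have h1 : ∑ k, (sMap A (bo U g) f * d k) • s k = 0 := by
      simp only [mul_smul, ← Finset.smul_sum, ← hd]
      rw [← Sections.res_sMap hle f]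
      refine (Scheme.Modules.map_smul _ _ _ _).symm.trans ?_
      rw [hz, map_zero]
    choose d' hd' using hrel _ h1
    refine ⟨∑ k, d' k • s k, ?_⟩
    rw [hd, Finset.smul_sum]
    refine Finset.sum_congr rfl fun k _ => ?_
    rw [smul_smul]
    refine congrArg (· • s k) (sub_eq_zero.1 (Basic.eq_zero_of_mul hgU hf ?_))
    rw [mul_sub, hd' k, ← mul_assoc, ← pow_succ', sub_self]
  refine CohBasics.Affine.mem_of_germ_mem hW _ z fun x hx => ?_
  obtain ⟨g, hxg, hle, -, w, hw⟩ := hne x hx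
  rw [← TopCat.Presheaf.germ_res_apply (G.obj (op (n + 1))).presheaf (homOfLE hle) x hxg z]
  erw [hw]
  obtain ⟨c, t, hc, e⟩ := StalkLoc.Basic.exists_smul_eq_germ hW hx
    ((G.obj (op (n + 1))).presheaf.germ (bo U g) x hxg w)
  refine (Submodule.smul_mem_iff_of_isUnit _ (((U : Scheme.{u}).mem_basicOpen c x hx).mp hc)).mp ?_
  refine Submodule.subset_span ⟨sMap A W f ^ (n + 1) • t, (mem_span_pow_smul _ _).2 ⟨t, rfl⟩, ?_⟩
  have hg : (U : Scheme.{u}).presheaf.germ (bo U g) x hxg (sMap A (bo U g) f ^ (n + 1)) =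
      (U : Scheme.{u}).presheaf.germ W x hx (sMap A W f ^ (n + 1)) := by
    rw [← map_pow (sMap A (bo U g)), ← map_pow (sMap A W), ← Sections.res_sMap hle (f ^ (n + 1))]
    exact (U : Scheme.{u}).presheaf.germ_res_apply (homOfLE hle) x hxg _
  erw [Modules.StalkModule.germ_smul, Modules.StalkModule.germ_smul, ← e, hg]
  exact smul_comm _ _ _

/-- A finite module whose sheaf is locally free over `O / f` is a direct summand of a free module
over `A / f` up to a power of some element not vanishing at a given point. -/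
theorem exists_data [IsNoetherianRing A] {M : (U : Scheme.{u}).Modules} {n : ℕ}
    (hM : _root_.Formal2.IsFinLocFreeMod (Ideal.span {f}) n M)
    (N : ModuleCat.{u} A) [Module.Finite A N] (hN : ∀ x : N, f ^ n • x = 0)
    (ψ : (SectTower.Θ U).obj N ≅ M) (p : PrimeSpectrum A) (hp : p ∈ U) :
    ∃ g : A, g ∉ p.asIdeal ∧
      ∃ (r m : ℕ) (P : N →ₗ[A] (Fin r → A ⧸ Ideal.span {f ^ n}))
        (R : (Fin r → A ⧸ Ideal.span {f ^ n}) →ₗ[A] N), ∀ x, R (P x) = g ^ m • x := by
  classical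
  obtain ⟨g, hgU, hxg, -, r, s, hsur, hrel⟩ :=
    exists_local hM (W := ⊤) (⟨p, hp⟩ : (U : Scheme.{u})) trivial
  refine ⟨g, hxg, r, ?_⟩
  obtain ⟨j, hj₁, hj₂, hj₃⟩ := Basic.exists_toSection hgU N
  let J : N →+ Γ(M, (bo U g)) := (ψ.hom.app (bo U g)).hom.comp j
  have hJ₁ : ∀ (a : A) (v : N), J (a • v) = sMap A (bo U g) a • J v := fun a v =>
    (congrArg (ψ.hom.app (bo U g)) (hj₁ a v)).trans (ψ.hom.app_smul _ _)
  have hbij : Function.Bijective (ψ.hom.app (bo U g)) := ConcreteCategory.bijective_of_isIso _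
  have hJ₂ : ∀ z, ∃ (v : N) (m : ℕ), sMap A (bo U g) (g ^ m) • z = J v := fun z => by
    obtain ⟨z', rfl⟩ := hbij.2 z
    obtain ⟨v, m, hv⟩ := hj₂ z'
    exact ⟨v, m, (ψ.hom.app_smul _ _).symm.trans (congrArg (ψ.hom.app (bo U g)) hv)⟩
  have hJ₃ : ∀ v, J v = 0 → ∃ m : ℕ, g ^ m • v = 0 := fun v hv =>
    hj₃ v (hbij.1 (hv.trans (map_zero _).symm))
  choose b mb hb using fun k => hJ₂ (s k)
  have hsum : ∀ c : Fin r → A, J (∑ k, c k • b k) = ∑ k, sMap A (bo U g) (c k * g ^ mb k) • s k := fun c => by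
    rw [map_sum]
    refine Finset.sum_congr rfl fun k _ => ?_
    rw [hJ₁, ← hb, smul_smul, map_mul]
  refine exists_split (f ^ n) g hN b (fun c hc k => ?_) fun v => ?_
  · obtain ⟨d', hd'⟩ := hrel _ ((hsum c).symm.trans ((congrArg J hc).trans (map_zero J))) k
    obtain ⟨i, a, ha⟩ := Basic.exists_mul_eq hgU d'
    have h0 : sMap A (bo U g) (g ^ i * (c k * g ^ mb k) - f ^ n * a) = 0 := by
      rw [map_sub, map_mul, hd', map_mul, map_pow (sMap A (bo U g)) f n, ← ha, sub_eq_zero]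
      exact mul_left_comm _ _ _
    obtain ⟨l, hl⟩ := Basic.sMap_eq_zero hgU h0
    refine ⟨l + i + mb k, Ideal.mem_span_singleton'.2 ⟨g ^ l * a, ?_⟩⟩
    rw [mul_sub, sub_eq_zero] at hl
    rw [pow_add, pow_add]
    linear_combination -hl
  · obtain ⟨d, hd⟩ := hsur (J v)
    choose i a ha using fun k => Basic.exists_mul_eq hgU (d k)
    let I := Finset.univ.sup fun k => i k + mb k
    have hI : ∀ k, i k + mb k ≤ I := fun k =>
      Finset.le_sup (f := fun k => i k + mb k) (Finset.mem_univ k)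
    have h0 : J (g ^ (I + I) • v - ∑ k, (g ^ (I + I - i k - mb k) * a k) • b k) = 0 := by
      rw [map_sub, hsum, hJ₁, hd, Finset.smul_sum, sub_eq_zero]
      refine Finset.sum_congr rfl fun k _ => ?_
      rw [smul_smul]
      refine congrArg (· • s k) ?_
      rw [mul_right_comm, ← pow_add,
        show I + I - i k - mb k + mb k = (I + I - i k) by have := hI k; omega, map_mul, ← ha,
        ← mul_assoc, ← map_mul, ← pow_add,
        show I + I - i k + i k = I + I by have := hI k; omega]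
    obtain ⟨l, hl⟩ := hJ₃ _ h0
    refine ⟨l + (I + I), fun k => g ^ l * (g ^ (I + I - i k - mb k) * a k), ?_⟩
    rw [smul_sub, sub_eq_zero, Finset.smul_sum] at hl
    rw [pow_add, mul_smul, hl]
    exact Finset.sum_congr rfl fun k _ => smul_smul _ _ _

end Groth.Agent.H78.PrincipalAlg.Local
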