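import Groth.Agent.H78.PrincipalAlg.Main
import Groth.Agent.H78.PrincipalAlg.Finite
import Groth.Agent.H78.PrincipalAlg.Local

/-!
# Algebraisation of formal modules locally free for a principal ideal on a punctured spectrum
-/

set_option autoImplicit false
set_option linter.style.haveILetI false
set_option linter.unusedSectionVars false

noncomputable section

universe u

open CategoryTheory CategoryTheory.Limits AlgebraicGeometry Opposite TopologicalSpace

namespace Groth.Agent.H78.PrincipalAlg.Final

open Groth.Agent.Lib Groth.Agent.H78.Formal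

variable {A : Type u} [CommRing A] [IsNoetherianRing A]

/-- A module whose sheaf is coherent on `U` and killed by `f` can be replaced by a finite one. -/
theorem exists_finite {U : (Spec (CommRingCat.of A)).Opens} {F : (U : Scheme.{u}).Modules}
    (hF : Coh.IsCoh F) {f : A} (M : ModuleCat.{u} A) (e : (SectTower.Θ U).obj M ≅ F)
    (hM : ∀ x : M, f • x = 0) :
    ∃ N : ModuleCat.{u} A, Module.Finite A N ∧ (∀ x : N, f • x = 0) ∧
      Nonempty ((SectTower.Θ U).obj N ≅ F) := by
  have htop : Epi ((SectTower.Θ U).map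
      (ModuleCat.ofHom (⊤ : Submodule A M).subtype : ModuleCat.of A (⊤ : Submodule A M) ⟶ M)) :=
    Theta.epi_map (R := CommRingCat.of A) U _ fun x => ⟨⟨x, trivial⟩, rfl⟩
  obtain ⟨S, -, hfin, hepi⟩ := SectTower.exists_fg hF e ⊤ htop
  haveI := hepi
  haveI := Theta.mono_map (R := CommRingCat.of A) U (ModuleCat.ofHom S.subtype : ModuleCat.of A S ⟶ M)
    Subtype.val_injective
  haveI : IsIso ((SectTower.Θ U).map (ModuleCat.ofHom S.subtype : ModuleCat.of A S ⟶ M)) :=
    isIso_of_mono_of_epi _
  exact ⟨ModuleCat.of A S, hfin, fun x => Subtype.ext (hM x.1),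
    ⟨asIso ((SectTower.Θ U).map (ModuleCat.ofHom S.subtype : ModuleCat.of A S ⟶ M)) ≪≫ e⟩⟩

/-- A formal module, locally free over the quotients by the powers of a nonzerodivisor `f`, on the
complement of `V(a)`, is algebraisable when `H^1_a(A/f)` and `H^2_a(A/f)` are finite. -/
theorem exists_completion_iso (a : Ideal A) {f : A} (hnzd : f ∈ nonZeroDivisors A)
    [IsAdicComplete (Ideal.span {f}) A]
    (h₁ : Module.Finite A (LocCoh.H a 1 (A ⧸ Ideal.span {f})))
    (h₂ : Module.Finite A (LocCoh.H a 2 (A ⧸ Ideal.span {f})))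
    (G : ℕᵒᵖ ⥤ ((PuncturedLC.U a : (Spec (CommRingCat.of A)).Opens) : Scheme.{u}).Modules)
    (hG : _root_.Formal.IsCohFormal (Ideal.span {f}) G)
    (hfree : ∀ n : ℕ, _root_.Formal2.IsFinLocFreeMod (Ideal.span {f}) (n + 1) (G.obj (op n))) :
    ∃ F : ((PuncturedLC.U a : (Spec (CommRingCat.of A)).Opens) : Scheme.{u}).Modules, Coh.IsCoh F ∧
      Nonempty (_root_.Formal.completion (Ideal.span {f}) F ≅ G) := by
  let U : (Spec (CommRingCat.of A)).Opens := PuncturedLC.U a
  obtain ⟨e⟩ := SectTower.nonempty_iso U G hG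
  obtain ⟨N, hfin, hN, ⟨ψ⟩⟩ := exists_finite (hG.1 0) (f := f) _ (e.app (op 0)) fun x => by
    have h := SectTower.killed U G hG 0
    refine (Submodule.mem_bot A).1 (h ▸ ?_)
    rw [pow_one]
    exact Submodule.smul_mem_smul (Ideal.mem_span_singleton_self f) trivial
  haveI := hfin
  obtain ⟨h0, h1⟩ := Finite.finite_HH a h₁ h₂ N fun p hp => by
    have h := Local.exists_data (hfree 0) N (fun x => by rw [zero_add, pow_one]; exact hN x) ψ p hp
    rwa [zero_add, pow_one] at h
  haveI := h0
  haveI := h1
  exact PrincipalAlg.exists_completion_iso hG (Local.isRegularSys hnzd G hG hfree)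
    (Module.Finite.equiv (Curves.LES.isoK A ψ 0)) (Module.Finite.equiv (Curves.LES.isoK A ψ 1))

end Groth.Agent.H78.PrincipalAlg.Final
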