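import Groth.Agent.H78.PrincipalAlg.Finite
import Groth.Agent.Lib.LCFin.Seq

/-!
# Reductions of locally free modules and the first cohomology of the punctured spectrum
-/

set_option autoImplicit false
set_option linter.style.haveILetI false
set_option linter.unusedSectionVars false

noncomputable section

universe u

open CategoryTheory CategoryTheory.Limits AlgebraicGeometry Opposite TopologicalSpace

attribute [local instance] HasDerivedCategory.standard

namespace Groth.Agent.H78.PrincipalAlg.Range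

open Groth.Agent.Lib Groth.Agent.H78.Formal
open Groth.Agent.H78.FormalFun.Basic (H)

variable {A : Type u} [CommRing A] [IsNoetherianRing A] (a : Ideal A)

/-- Summand data descend along reductions, with coordinate forms which lift. -/
theorem exists_reduced {J : Ideal A} {f : A} (hJ : J ≤ Ideal.span {f}) {N N₀ : ModuleCat.{u} A}
    (q : N →ₗ[A] N₀) (hq : Function.Surjective q) (hker : ∀ x, q x = 0 → ∃ y, x = f • y)
    (hN₀ : ∀ x : N₀, f • x = 0) (g : A) {r m : ℕ} (P : N →ₗ[A] (Fin r → A ⧸ J))
    (R : (Fin r → A ⧸ J) →ₗ[A] N) (hPR : ∀ x, R (P x) = g ^ m • x) :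
    ∃ (P₀ : N₀ →ₗ[A] (Fin r → A ⧸ Ideal.span {f})) (R₀ : (Fin r → A ⧸ Ideal.span {f}) →ₗ[A] N₀),
      (∀ k, ∃ φ : N →ₗ[A] A ⧸ J,
        ((LinearMap.proj k).comp P₀).comp q = (Submodule.factor hJ).comp φ) ∧
      ∀ x, R₀ (P₀ x) = g ^ m • x := by
  classical
  let B : Type u := A ⧸ Ideal.span {f}
  let red : (Fin r → A ⧸ J) →ₗ[A] (Fin r → B) :=
    LinearMap.pi fun k => (Submodule.factor hJ).comp (LinearMap.proj k)
  have hred : ∀ (y : Fin r → A ⧸ J), f • red y = 0 := fun y => funext fun k => by
    obtain ⟨z, hz⟩ := Submodule.Quotient.mk_surjective (Ideal.span {f}) (red y k)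
    show f • red y k = 0
    rw [← hz, ← Submodule.Quotient.mk_smul, Submodule.Quotient.mk_eq_zero]
    exact Ideal.mem_span_singleton'.2 ⟨z, mul_comm z f⟩
  have hP : LinearMap.ker q ≤ LinearMap.ker (red.comp P) := fun x hx => by
    obtain ⟨y, rfl⟩ := hker x hx
    rw [LinearMap.mem_ker, map_smul]
    exact hred (P y)
  let P₀ : N₀ →ₗ[A] (Fin r → B) :=
    ((LinearMap.ker q).liftQ (red.comp P) hP).comp (q.quotKerEquivOfSurjective hq).symm.toLinearMap
  have hP₀ : ∀ x, P₀ (q x) = red (P x) := fun x => by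
    have : (q.quotKerEquivOfSurjective hq).symm (q x) = Submodule.Quotient.mk x := by
      rw [LinearEquiv.symm_apply_eq]
      rfl
    show (LinearMap.ker q).liftQ (red.comp P) hP ((q.quotKerEquivOfSurjective hq).symm (q x)) = _
    rw [this]
    rfl
  have hsur : Function.Surjective red := fun y => by
    choose z hz using fun k => Submodule.Quotient.mk_surjective (Ideal.span {f}) (y k)
    exact ⟨fun k => Submodule.Quotient.mk (z k), funext fun k => hz k⟩
  have hR : LinearMap.ker red ≤ LinearMap.ker (q.comp R) := fun y hy => by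
    choose z hz using fun k => Submodule.Quotient.mk_surjective J (y k)
    have h1 : ∀ k, ∃ e, z k = f * e := fun k => by
      have h2 : Submodule.Quotient.mk (z k) = (0 : B) := by
        have := congrFun (LinearMap.mem_ker.1 hy) k
        rw [show red y k = Submodule.factor hJ (y k) from rfl, ← hz k] at this
        exact this
      obtain ⟨e, he⟩ := Ideal.mem_span_singleton'.1 ((Submodule.Quotient.mk_eq_zero _).1 h2)
      exact ⟨e, he.symm.trans (mul_comm _ _)⟩
    choose e he using h1
    have hy' : y = f • (fun k => (Submodule.Quotient.mk (e k) : A ⧸ J)) := funext fun k => by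
      rw [← hz k, he k]
      exact Submodule.Quotient.mk_smul J f (e k)
    rw [LinearMap.mem_ker, hy', map_smul]
    exact hN₀ _
  let R₀ : (Fin r → B) →ₗ[A] N₀ :=
    ((LinearMap.ker red).liftQ (q.comp R) hR).comp (red.quotKerEquivOfSurjective hsur).symm.toLinearMap
  have hR₀ : ∀ y, R₀ (red y) = q (R y) := fun y => by
    have : (red.quotKerEquivOfSurjective hsur).symm (red y) = Submodule.Quotient.mk y := by
      rw [LinearEquiv.symm_apply_eq]
      rfl
    show (LinearMap.ker red).liftQ (q.comp R) hR ((red.quotKerEquivOfSurjective hsur).symm (red y)) = _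
    rw [this]
    rfl
  refine ⟨P₀, R₀, fun k => ⟨(LinearMap.proj k).comp P, LinearMap.ext fun x => congrFun (hP₀ x) k⟩,
    fun x => ?_⟩
  obtain ⟨z, rfl⟩ := hq x
  rw [hP₀, hR₀, hPR, map_smul]

/-- The reduction of a locally free module has finite image in the first cohomology of the punctured
spectrum when the reduction of local cohomology in degree two has finite image. -/
theorem finite_range {J : Ideal A} {f : A} (hJ : J ≤ Ideal.span {f})
    (h₁ : Module.Finite A (LocCoh.H a 1 (A ⧸ Ideal.span {f})))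
    (E : Submodule A (LocCoh.H a 2 (A ⧸ Ideal.span {f}))) [Module.Finite A E]
    (hE : ∀ x : LocCoh.H a 2 (A ⧸ J), LCFin.Seq.Hmap a 2 (Submodule.factor hJ) x ∈ E)
    {N N₀ : ModuleCat.{u} A} [Module.Finite A N₀] (q : N →ₗ[A] N₀) (hq : Function.Surjective q)
    (hker : ∀ x, q x = 0 → ∃ y, x = f • y) (hN₀ : ∀ x : N₀, f • x = 0)
    (h : ∀ p : PrimeSpectrum A, p ∈ PuncturedLC.U a → ∃ g : A, g ∉ p.asIdeal ∧
      ∃ (r m : ℕ) (P : N →ₗ[A] (Fin r → A ⧸ J)) (R : (Fin r → A ⧸ J) →ₗ[A] N),
        ∀ x, R (P x) = g ^ m • x) :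
    Module.Finite A (Coh.HH ((PuncturedLC.U a : (Spec (CommRingCat.of A)).Opens) : Scheme.{u})
      ((SectTower.Θ (PuncturedLC.U a)).obj N₀) 0) ∧
    Module.Finite A (LinearMap.range (H (A := A) 1
      ((SectTower.Θ (PuncturedLC.U a)).map (ModuleCat.ofHom q : N ⟶ N₀)))) := by
  classical
  let B : Type u := A ⧸ Ideal.span {f}
  obtain ⟨ι, κ, _, _, P, S, hΦ, hP, hS⟩ := Finite.exists_embedding a N₀
    (fun φ => ∃ φ' : N →ₗ[A] A ⧸ J, φ.comp q = (Submodule.factor hJ).comp φ') fun p hp => by
      obtain ⟨g, hg, r, m, P, R, hPR⟩ := h p hp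
      obtain ⟨P₀, R₀, hlift, h₀⟩ := exists_reduced hJ q hq hker hN₀ g P R hPR
      exact ⟨g, hg, r, m, P₀, R₀, hlift, h₀⟩
  obtain ⟨w, hsh⟩ := Finite.shortExact_embedding a P hP
  refine ⟨?_, ?_⟩
  · haveI := Finite.finite_HH_pi a ι B h₁
    haveI := hP
    exact Module.Finite.of_injective (R := A) _ (Curves.LES.mapK_injective_of_mono A
      ((SectTower.Θ (PuncturedLC.U a)).map (ModuleCat.ofHom P : N₀ ⟶ ModuleCat.of A _)))
  · let W : ModuleCat.{u} A := ModuleCat.of A (ι → B)
    let pr : ι → (W ⟶ ModuleCat.of A B) := fun k => ModuleCat.ofHom (LinearMap.proj k)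
    let lp : (localCohomology a (1 + 1)).obj W →ₗ[A] (ι → LocCoh.H a 2 B) :=
      LinearMap.pi fun k => ((localCohomology a (1 + 1)).map (pr k)).hom
    let L : Coh.HH ((PuncturedLC.U a : (Spec (CommRingCat.of A)).Opens) : Scheme.{u})
        ((SectTower.Θ (PuncturedLC.U a)).obj W) 1 →ₗ[A] (ι → LocCoh.H a 2 B) :=
      lp.comp (Linear.κ a W 1)
    let inc : ι → (ModuleCat.of A B ⟶ W) := fun k =>
      ModuleCat.ofHom (LinearMap.single A (fun _ : ι => B) k)
    have hid : ∑ k, pr k ≫ inc k = 𝟙 W := by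
      refine ModuleCat.hom_ext (LinearMap.ext fun x => ?_)
      rw [ModuleCat.hom_sum, LinearMap.sum_apply]
      exact Finset.univ_sum_single x
    haveI : (localCohomology a (1 + 1)).Additive := LocalCoh.localCohomology_additive a _
    have hlp : Function.Injective lp := (injective_iff_map_eq_zero _).2 fun y hy => by
      have h1 := congrArg (fun χ => ((localCohomology a (1 + 1)).map χ).hom y) hid
      simp only [Functor.map_sum, Functor.map_comp, ModuleCat.hom_sum, LinearMap.sum_apply] at h1
      rw [show ((localCohomology a (1 + 1)).map (𝟙 W)).hom y = y by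
        rw [CategoryTheory.Functor.map_id]; rfl] at h1
      rw [← h1]
      refine Finset.sum_eq_zero fun k _ => ?_
      show ((localCohomology a (1 + 1)).map (inc k)).hom (lp y k) = 0
      rw [hy]
      exact map_zero _
    let EE : Submodule A (ι → LocCoh.H a 2 B) := Submodule.pi Set.univ fun _ => E
    let ev : EE →ₗ[A] (ι → E) :=
      LinearMap.pi fun k => ((LinearMap.proj k).comp EE.subtype).codRestrict E fun z => z.2 k trivial
    haveI hEfin : Module.Finite A EE := Module.Finite.of_injective ev fun z z' hz =>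
      Subtype.ext (funext fun k => congrArg Subtype.val (congrFun hz k))
    let T := EE.comap L
    haveI hT : Module.Finite A T :=
      Module.Finite.of_injective (L.restrict fun z hz => hz : T →ₗ[A] EE) fun z z' hz =>
        Subtype.ext (Linear.κ_injective a W 0 (hlp (congrArg Subtype.val hz)))
    let HP := Curves.LES.mapK A ((SectTower.Θ (PuncturedLC.U a)).map (ModuleCat.ofHom P : N₀ ⟶ W)) 1
    have hmem : ∀ z, HP (H (A := A) 1
        ((SectTower.Θ (PuncturedLC.U a)).map (ModuleCat.ofHom q : N ⟶ N₀)) z) ∈ T := fun z => by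
      rw [Submodule.mem_comap, Submodule.mem_pi]
      intro k _
      obtain ⟨φ', hφ'⟩ := hΦ k
      show ((localCohomology a (1 + 1)).map (pr k)).hom (Linear.κ₀ a W 1 _) ∈ E
      erw [Linear.κ₀_map, Linear.κ₀_map]
      have h2 : (ModuleCat.ofHom q : N ⟶ N₀) ≫ (ModuleCat.ofHom P : N₀ ⟶ W) ≫ pr k =
          (ModuleCat.ofHom φ' : N ⟶ ModuleCat.of A (A ⧸ J)) ≫
            (ModuleCat.ofHom (Submodule.factor hJ) : ModuleCat.of A (A ⧸ J) ⟶ ModuleCat.of A B) :=
        ModuleCat.hom_ext hφ'
      have h3 := congrArg (fun χ => ((localCohomology a (1 + 1)).map χ).hom (Linear.κ₀ a N 1 z)) h2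
      simp only [Functor.map_comp] at h3
      exact h3.symm ▸ hE _
    let T' := T.comap HP
    have hle : LinearMap.range (H (A := A) 1
        ((SectTower.Θ (PuncturedLC.U a)).map (ModuleCat.ofHom q : N ⟶ N₀))) ≤ T' := by
      rintro _ ⟨z, rfl⟩
      exact hmem z
    haveI := Finite.finite_HH_pi a κ B h₁
    haveI := hS
    have h3 := Module.Finite.of_injective (R := A) _ (Curves.LES.mapK_injective_of_mono A
      ((SectTower.Θ (PuncturedLC.U a)).map (ModuleCat.ofHom S :
        ModuleCat.of A _ ⟶ ModuleCat.of A (κ → B))))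
    let δ := (Curves.LES.δK A hsh 0 1 rfl).codRestrict T' fun z => by
      rw [Submodule.mem_comap]
      exact (Curves.LES.exactK₁ A hsh 0 1 rfl).apply_apply_eq_zero z ▸ T.zero_mem
    let HP' : T' →ₗ[A] T := HP.restrict fun z hz => hz
    have hex : Function.Exact δ HP' := fun z => by
      constructor
      · intro hz
        obtain ⟨y, hy⟩ := (Curves.LES.exactK₁ A hsh 0 1 rfl z.1).1 (congrArg Subtype.val hz)
        exact ⟨y, Subtype.ext hy⟩
      · rintro ⟨y, rfl⟩
        exact Subtype.ext ((Curves.LES.exactK₁ A hsh 0 1 rfl).apply_apply_eq_zero y)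
    haveI : Module.Finite A T' := @ProperFin.Finite.finite_of_exact A _ _ _ _ _ _ _ _ _ _ _ h3 hT _ _ hex
    haveI : IsNoetherian A T' := isNoetherian_of_isNoetherianRing_of_finite A T'
    exact Module.Finite.of_injective (Submodule.inclusion hle) (Submodule.inclusion_injective hle)

end Groth.Agent.H78.PrincipalAlg.Range
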