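import Groth.Agent.H78.PrincipalAlg.Final
import Groth.Agent.H78.PrincipalAlg.Range
import Groth.Agent.H78.PrincipalAlg.DepthCond
import Groth.Prelude.Def_FEt

/-!
# Algebraisation along a principal ideal from depth conditions
-/

set_option autoImplicit false
set_option linter.style.haveILetI false
set_option linter.unusedSectionVars false

noncomputable section

universe u

open CategoryTheory CategoryTheory.Limits AlgebraicGeometry Opposite TopologicalSpace

attribute [local instance] HasDerivedCategory.standard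

namespace Groth.Agent.H78.PrincipalAlg.FinalDepth

open Groth.Agent.Lib Groth.Agent.H78.Formal
open Groth.Agent.H78.FormalFun.Basic (H H_comp)

variable {A : Type u} [CommRing A] [IsNoetherianRing A]

/-- The bottom of a system as the reduction of a module giving level `c`. -/
theorem exists_bottom_iso {U : (Spec (CommRingCat.of A)).Opens} {f : A}
    {G : ℕᵒᵖ ⥤ (U : Scheme.{u}).Modules} (hG : _root_.Formal.IsCohFormal (Ideal.span {f}) G) (c : ℕ)
    {N N₀ : ModuleCat.{u} A} (ψ : (SectTower.Θ U).obj N ≅ G.obj (op c)) (q : N ⟶ N₀)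
    (hq : Function.Surjective q.hom) (hker : ∀ x, q.hom x = 0 → ∃ y, x = f • y)
    (hN₀ : ∀ x : N₀, f • x = 0) :
    ∃ e : (SectTower.Θ U).obj N₀ ≅ G.obj (op 0),
      (SectTower.Θ U).map q ≫ e.hom = ψ.hom ≫ t G (Nat.zero_le c) := by
  haveI := Theta.isQCoh_obj (R := CommRingCat.of A) U N₀
  haveI hepi := Theta.epi_map (R := CommRingCat.of A) U q hq
  haveI := Formal.Sys.epi_map hG (Nat.zero_le c)
  let p : N ⟶ N := ModuleCat.ofHom (f • (LinearMap.id : N →ₗ[A] N))
  have hpq : p ≫ q = 0 := ModuleCat.hom_ext (LinearMap.ext fun x => by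
    show q.hom (f • x) = 0
    rw [map_smul]
    exact hN₀ _)
  have hex := Theta.exact_map (R := CommRingCat.of A) U (S := ShortComplex.mk p q hpq)
    ((ShortComplex.moduleCat_exact_iff _).2 fun x hx => by
      obtain ⟨y, hy⟩ := hker x hx
      exact ⟨y, hy.symm⟩)
  have hkill : (SectTower.Θ U).map p ≫ ψ.hom ≫ t G (Nat.zero_le c) = 0 := by
    rw [← SectTower.smulMod_Θ, ← Category.assoc, Sections.smulMod_comp, Category.assoc,
      Sections.smulMod_comp, hG.2.1 0 f (by rw [pow_one]; exact Ideal.mem_span_singleton_self f),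
      comp_zero, comp_zero]
  obtain ⟨h, hh⟩ : ∃ h, (SectTower.Θ U).map q ≫ h = ψ.hom ≫ t G (Nat.zero_le c) :=
    haveI : (Theta.Θ (R := CommRingCat.of A) U).PreservesZeroMorphisms :=
      ⟨fun M M' => Theta.map_zero' U M M'⟩
    haveI he : Epi ((ShortComplex.mk p q hpq).map (Theta.Θ (R := CommRingCat.of A) U)).g := hepi
    ⟨@ShortComplex.Exact.desc _ _ _ _ _ hex _ _ hkill he,
      @ShortComplex.Exact.g_desc _ _ _ _ _ hex _ _ hkill he⟩
  have hkb : _root_.Formal.KilledBy (Ideal.span {f} ^ (0 + 1)) ((SectTower.Θ U).obj N₀) := fun a ha => by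
    rw [zero_add, pow_one] at ha
    obtain ⟨d, rfl⟩ := Ideal.mem_span_singleton'.1 ha
    rw [SectTower.smulMod_Θ, show ModuleCat.ofHom ((d * f) • (LinearMap.id : N₀ →ₗ[A] N₀)) = 0 from
      ModuleCat.hom_ext (LinearMap.ext fun x => by
        show (d * f) • x = 0
        rw [mul_smul, hN₀, smul_zero])]
    exact Theta.map_zero' (R := CommRingCat.of A) U N₀ N₀
  obtain ⟨h', hh'⟩ := Formal.Sys.exists_desc_map hG (Nat.zero_le c) (ψ.inv ≫ (SectTower.Θ U).map q) hkb
  refine ⟨⟨h, h', ?_, ?_⟩, hh⟩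
  · rw [← cancel_epi ((SectTower.Θ U).map q), ← Category.assoc, hh, Category.assoc]
    erw [hh', ψ.hom_inv_id_assoc]
    rw [Category.comp_id]
  · rw [← cancel_epi (t G (Nat.zero_le c)), ← Category.assoc]
    erw [hh']
    rw [Category.assoc, hh, ψ.inv_hom_id_assoc]
    exact (Category.comp_id _).symm

/-- The theorem for the punctured spectrum written as the complement of the closed locus. -/
theorem exists_completion_iso_depth [IsLocalRing A] (hω : ∃ ω : Dual.D A, Dual.IsDualizing A ω) {f : A}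
    (hf : f ∈ IsLocalRing.maximalIdeal A) (hnzd : f ∈ nonZeroDivisors A)
    [IsAdicComplete (Ideal.span {f}) A]
    (U : (Spec (CommRingCat.of A)).Opens) (hU : U = PuncturedLC.U (IsLocalRing.maximalIdeal A))
    (G : ℕᵒᵖ ⥤ (U : Scheme.{u}).Modules) (hG : _root_.Formal.IsCohFormal (Ideal.span {f}) G)
    (hfree : ∀ n : ℕ, _root_.Formal2.IsFinLocFreeMod (Ideal.span {f}) (n + 1) (G.obj (op n)))
    (h₅ : ∀ (p : Ideal A) [p.IsPrime], f ∈ p → p ≠ IsLocalRing.maximalIdeal A →
      (1 : WithBot ℕ∞) < ((LocCoh.depth (Localization.AtPrime p)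
        (LocalizedModule p.primeCompl (A ⧸ Ideal.span {f})) : ℕ∞) : WithBot ℕ∞) + ringKrullDim (A ⧸ p))
    (h₆ : ∀ (p : Ideal A) [p.IsPrime], f ∉ p →
      (∃ r : Ideal A, r.IsPrime ∧ p ≤ r ∧ f ∈ r ∧ r ≠ IsLocalRing.maximalIdeal A) →
      (3 : WithBot ℕ∞) < ((LocCoh.depth (Localization.AtPrime p) (Localization.AtPrime p) : ℕ∞) :
        WithBot ℕ∞) + ringKrullDim (A ⧸ p)) :
    ∃ F : (U : Scheme.{u}).Modules, Coh.IsCoh F ∧
      Nonempty (_root_.Formal.completion (Ideal.span {f}) F ≅ G) := by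
  subst hU
  let a := IsLocalRing.maximalIdeal A
  obtain ⟨c, E, hEfin, hE⟩ := DepthCond.exists_finite_range hω hnzd hf h₅ h₆
  haveI := hEfin
  have h₁ : Module.Finite A (LocCoh.H a 1 (A ⧸ Ideal.span {f ^ 1})) := by
    rw [pow_one]
    exact DepthCond.finite_H_one hω hnzd hf h₅
  obtain ⟨e⟩ := SectTower.nonempty_iso (PuncturedLC.U a) G hG
  obtain ⟨N, hfin, hN, ⟨ψ⟩⟩ := Final.exists_finite (hG.1 c) (f := f ^ (c + 1)) _ (e.app (op c))
    fun x => by
      have h := SectTower.killed (PuncturedLC.U a) G hG c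
      refine (Submodule.mem_bot A).1 (h ▸ ?_)
      exact Submodule.smul_mem_smul (Ideal.pow_mem_pow (Ideal.mem_span_singleton_self f) _) trivial
  haveI := hfin
  let S : Submodule A N := LinearMap.range (f ^ 1 • (LinearMap.id : N →ₗ[A] N))
  let N₀ : ModuleCat.{u} A := ModuleCat.of A (N ⧸ S)
  have hker : ∀ x, S.mkQ x = 0 → ∃ y, x = f ^ 1 • y := fun x hx => by
    obtain ⟨y, hy⟩ := (Submodule.Quotient.mk_eq_zero S).1 hx
    exact ⟨y, hy.symm⟩
  have hN₀ : ∀ x : N₀, f ^ 1 • x = 0 := fun x => by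
    obtain ⟨x, rfl⟩ := Submodule.Quotient.mk_surjective S x
    exact (Submodule.Quotient.mk_smul S _ x).symm.trans
      ((Submodule.Quotient.mk_eq_zero S).2 ⟨x, rfl⟩)
  haveI : Module.Finite A N₀ := inferInstanceAs (Module.Finite A (N ⧸ S))
  obtain ⟨h0, hrange⟩ := Range.finite_range a
    ((Ideal.span_singleton_le_span_singleton).2 (pow_dvd_pow f (Nat.le_add_left 1 c))) h₁ E hE
    (N₀ := N₀) S.mkQ S.mkQ_surjective hker hN₀ fun p hp => Local.exists_data (hfree c) N hN ψ p hp
  obtain ⟨e₀, he₀⟩ := exists_bottom_iso hG c ψ (ModuleCat.ofHom S.mkQ : N ⟶ N₀) S.mkQ_surjective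
    (fun x hx => by simpa using hker x hx) fun x => by simpa using hN₀ x
  haveI := h0
  haveI := hrange
  refine PrincipalAlg.exists_completion_iso_of_range hG (Local.isRegularSys hnzd G hG hfree)
    (Module.Finite.equiv (Curves.LES.isoK A e₀ 0)) c ?_
  have hle : LinearMap.range (H (A := A) 1 (t G (Nat.zero_le c))) ≤
      (LinearMap.range (H (A := A) 1 ((SectTower.Θ (PuncturedLC.U a)).map
        (ModuleCat.ofHom S.mkQ : N ⟶ N₀)))).map (H (A := A) 1 e₀.hom) := by
    rintro _ ⟨z, rfl⟩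
    refine ⟨_, ⟨H (A := A) 1 ψ.inv z, rfl⟩, ?_⟩
    rw [← H_comp, ← H_comp, he₀, ψ.inv_hom_id_assoc]
  haveI : Module.Finite A ((LinearMap.range (H (A := A) 1 ((SectTower.Θ (PuncturedLC.U a)).map
      (ModuleCat.ofHom S.mkQ : N ⟶ N₀)))).map (H (A := A) 1 e₀.hom)) :=
    Module.Finite.map _ _
  haveI : IsNoetherian A ((LinearMap.range (H (A := A) 1 ((SectTower.Θ (PuncturedLC.U a)).map
      (ModuleCat.ofHom S.mkQ : N ⟶ N₀)))).map (H (A := A) 1 e₀.hom)) :=
    isNoetherian_of_isNoetherianRing_of_finite A _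
  exact Module.Finite.of_injective (Submodule.inclusion hle) (Submodule.inclusion_injective hle)

end Groth.Agent.H78.PrincipalAlg.FinalDepth
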