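import Groth.Agent.Lib.LCFin.Seq
import Groth.Agent.Lib.LCFin.Artinian
import Groth.Agent.Lib.RGamma.AnnihilatorModule
import Groth.Agent.Lib.RGamma.HTPowers
import Groth.Agent.Lib.Depth.CM
import Groth.Agent.Lib.Depth.SES
import Groth.Agent.S0329
import Mathlib.RingTheory.HopkinsLevitzki
import Mathlib.RingTheory.KrullDimension.NonZeroDivisors

/-!
# Reduction maps on local cohomology of the quotients by powers of a nonzerodivisor

Under depth conditions away from `V(f)` near it, the map `H^2_m(A/f^(c+1)) → H^2_m(A/f)` has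
finite image for `c` large.
-/

set_option autoImplicit false
set_option linter.style.haveILetI false
set_option linter.unusedSectionVars false

universe u

open CategoryTheory Groth.Agent.Lib.LCFin

attribute [local instance] HasDerivedCategory.standard

namespace Groth.Agent.H78.PrincipalAlg.LCImage

open Groth.Agent.Lib

variable {A : Type u} [CommRing A] [IsNoetherianRing A] [IsLocalRing A]

/-- Artinian modules killed by an ideal primary to the maximal ideal are finite. -/
theorem finite_of_killed {M : Type u} [AddCommGroup M] [Module A M] [IsArtinian A M] (J : Ideal A)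
    (hJ : ∀ P : PrimeSpectrum A, J ≤ P.asIdeal → P = IsLocalRing.closedPoint A)
    (h : ∀ a ∈ J, ∀ x : M, a • x = 0) : Module.Finite A M := by
  have htor : Module.IsTorsionBySet A M (J : Set A) := fun x a => h a.1 a.2 x
  letI : Module (A ⧸ J) M := htor.module
  haveI : IsScalarTower A (A ⧸ J) M := htor.isScalarTower
  haveI : IsArtinianRing (A ⧸ J) := by
    rw [isArtinianRing_iff_isNoetherianRing_krullDimLE_zero]
    refine ⟨inferInstance, Ring.krullDimLE_zero_iff.2 fun P hP => ?_⟩
    have hp := hJ ⟨P.comap (Ideal.Quotient.mk J), inferInstance⟩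
      (le_trans Ideal.mk_ker.ge (Ideal.comap_mono bot_le))
    have : (P.comap (Ideal.Quotient.mk J)).IsMaximal := by
      rw [show P.comap (Ideal.Quotient.mk J) = IsLocalRing.maximalIdeal A from
        congrArg PrimeSpectrum.asIdeal hp]
      infer_instance
    rw [← Ideal.map_comap_of_surjective _ Ideal.Quotient.mk_surjective P]
    exact (Ideal.map_eq_top_or_isMaximal_of_surjective _ Ideal.Quotient.mk_surjective this).resolve_left
      (by rw [Ideal.map_comap_of_surjective _ Ideal.Quotient.mk_surjective P]; exact hP.ne_top)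
  haveI : IsArtinian (A ⧸ J) M := isArtinian_of_tower A ‹_›
  haveI : IsNoetherian (A ⧸ J) M := IsSemiprimaryRing.isNoetherian_iff_isArtinian.2 ‹_›
  exact Module.Finite.trans (A ⧸ J) M

/-- Primes all of whose common specializations with `f` are closed. -/
def badSet (f : A) : Set (PrimeSpectrum A) :=
  {p | ∀ r : PrimeSpectrum A, p ≤ r → f ∈ r.asIdeal → r = IsLocalRing.closedPoint A}

lemma stable_badSet (f : A) : StableUnderSpecialization (badSet f) := fun p p' h hp r hr hfr =>
  hp r (((PrimeSpectrum.le_iff_specializes p p').2 h).trans hr) hfr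

lemma stable_singleton :
    StableUnderSpecialization ({IsLocalRing.closedPoint A} : Set (PrimeSpectrum A)) := by
  intro p p' h hp
  subst hp
  exact le_antisymm (IsLocalRing.le_maximalIdeal p'.isPrime.ne_top |>.trans le_rfl)
    ((PrimeSpectrum.le_iff_specializes _ _).2 h) |> fun e => Set.mem_singleton_iff.2 e

lemma krullDim_Icc (p q : PrimeSpectrum A) (hq : q = IsLocalRing.closedPoint A) :
    Order.krullDim (Set.Icc p q) = ringKrullDim (A ⧸ p.asIdeal) := by
  subst hq
  have : Set.Icc p (IsLocalRing.closedPoint A) = PrimeSpectrum.zeroLocus (p.asIdeal : Set A) := by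
    ext r
    exact ⟨fun h => h.1, fun h => ⟨h, IsLocalRing.le_maximalIdeal r.isPrime.ne_top⟩⟩
  rw [this]
  exact (Order.krullDim_eq_of_orderIso p.asIdeal.primeSpectrumQuotientOrderIsoZeroLocus).symm

/-- Annihilators of local cohomology at the closed point from depths at the primes outside `T'`. -/
theorem exists_kill (hω : ∃ ω : Dual.D A, Dual.IsDualizing A ω) {T' : Set (PrimeSpectrum A)}
    (hT' : StableUnderSpecialization T') (M : Type u) [AddCommGroup M] [Module A M] [Module.Finite A M]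
    (s : ℕ) (h : ∀ p : PrimeSpectrum A, p ∉ T' → (s : WithBot ℕ∞) <
      ((LocCoh.depth (Localization.AtPrime p.asIdeal) (LocalizedModule p.asIdeal.primeCompl M) :
        ℕ∞) : WithBot ℕ∞) + ringKrullDim (A ⧸ p.asIdeal)) :
    ∃ J : Ideal A, (∀ P : PrimeSpectrum A, J ≤ P.asIdeal → P ∈ T') ∧
      ∀ i ≤ s, ∀ a ∈ J, ∀ x : LocCoh.H (IsLocalRing.maximalIdeal A) i M, a • x = 0 := by
  have hz : PrimeSpectrum.zeroLocus (IsLocalRing.maximalIdeal A : Set A) =
      {IsLocalRing.closedPoint A} := PrimeSpectrum.zeroLocus_eq_singleton _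
  have hT : StableUnderSpecialization (PrimeSpectrum.zeroLocus (IsLocalRing.maximalIdeal A : Set A)) := by
    rw [hz]; exact stable_singleton
  obtain ⟨J, hJ, hann⟩ := (RGamma.AnnihilatorModule.HT_iff s M).2
    ((RGamma.AnnihilatorModule.annihilated_iff hω hT hT' s M).2 fun p q hp hq _ => by
      rw [hz] at hq
      rw [krullDim_Icc p q hq]
      exact h p hp)
  refine ⟨J, fun P hP => hJ hP, fun i hi a ha x => ?_⟩
  obtain ⟨e⟩ := RGamma.HTPowers.nonempty_equiv (IsLocalRing.maximalIdeal A) i M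
  apply e.symm.injective
  rw [map_smul, map_zero]
  exact hann i hi a ha _

variable (f : A)

/-- The reduction modulo `f`. -/
def red (n : ℕ) : (A ⧸ Ideal.span {f ^ (n + 1)}) →ₗ[A] A ⧸ Ideal.span {f} :=
  Submodule.factor ((Ideal.span_singleton_le_span_singleton).2 (dvd_pow_self f n.succ_ne_zero))

variable {f}

lemma injective_lsmul (hnzd : f ∈ nonZeroDivisors A) (n : ℕ) :
    Function.Injective (LinearMap.lsmul A A (f ^ n)) := fun x y hxy => by
  refine sub_eq_zero.1 ((pow_mem hnzd n).1 _ ?_)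
  rw [mul_sub, sub_eq_zero]
  exact hxy

lemma exact_lsmul (x : A) :
    Function.Exact (LinearMap.lsmul A A x) (Ideal.span {x}).mkQ := fun y => by
  rw [Submodule.mkQ_apply, Submodule.Quotient.mk_eq_zero, Ideal.mem_span_singleton']
  exact ⟨fun ⟨c, hc⟩ => ⟨c, (mul_comm x c).trans hc⟩, fun ⟨c, hc⟩ => ⟨c, (mul_comm c x).trans hc⟩⟩

/-- The reduction commutes with the connecting maps. -/
lemma δ_red (hnzd : f ∈ nonZeroDivisors A) (n i : ℕ)
    (x : LocCoh.H (IsLocalRing.maximalIdeal A) i (A ⧸ Ideal.span {f ^ (n + 1)})) :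
    Seq.δ (IsLocalRing.maximalIdeal A) (f := LinearMap.lsmul A A (f ^ 1))
        (g := (Ideal.span {f ^ 1}).mkQ) (injective_lsmul hnzd 1) (Submodule.mkQ_surjective _)
        (exact_lsmul (f ^ 1)) i
      (Seq.Hmap (IsLocalRing.maximalIdeal A) i
        (Submodule.factor ((Ideal.span_singleton_le_span_singleton).2
          (pow_dvd_pow f (Nat.le_add_left 1 n)))) x) =
    f ^ n • Seq.δ (IsLocalRing.maximalIdeal A) (injective_lsmul hnzd (n + 1))
        (Submodule.mkQ_surjective _) (exact_lsmul (f ^ (n + 1))) i x := by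
  let S := Seq.ses _ _ (exact_lsmul (f ^ (n + 1)))
  let S' := Seq.ses _ _ (exact_lsmul (f ^ 1))
  let φ : S ⟶ S' :=
    { τ₁ := ModuleCat.ofHom (LinearMap.lsmul A A (f ^ n))
      τ₂ := 𝟙 _
      τ₃ := ModuleCat.ofHom (Submodule.factor ((Ideal.span_singleton_le_span_singleton).2
          (pow_dvd_pow f (Nat.le_add_left 1 n))))
      comm₁₂ := ModuleCat.hom_ext (LinearMap.ext fun (y : A) => by
        show f ^ 1 * (f ^ n * y) = f ^ (n + 1) * y
        rw [← mul_assoc, ← pow_add, add_comm])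
      comm₂₃ := ModuleCat.hom_ext (LinearMap.ext fun (_ : A) => rfl) }
  have h := ConcreteCategory.congr_hom ((LocalCoh.lcDeltaSeq (IsLocalRing.maximalIdeal A)).naturality
    (Seq.ses_shortExact (injective_lsmul hnzd (n + 1)) (Submodule.mkQ_surjective _) (exact_lsmul _))
    (Seq.ses_shortExact (injective_lsmul hnzd 1) (Submodule.mkQ_surjective _) (exact_lsmul _)) φ i) x
  refine Eq.trans h ?_
  exact Seq.Hmap_lsmul (IsLocalRing.maximalIdeal A) (i + 1) (f ^ n) _

/-- The image of the reduction on `H^2` is finite. -/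
theorem exists_finite_range_one (hnzd : f ∈ nonZeroDivisors A) (J₂ J₃ : Ideal A)
    (hJ₂ : ∀ P : PrimeSpectrum A, J₂ ≤ P.asIdeal → f ∈ P.asIdeal → P = IsLocalRing.closedPoint A)
    (hJ₃ : ∀ P : PrimeSpectrum A, J₃ ≤ P.asIdeal → f ∈ P.asIdeal → P = IsLocalRing.closedPoint A)
    (hk₂ : ∀ a ∈ J₂, ∀ x : LocCoh.H (IsLocalRing.maximalIdeal A) 2 A, a • x = 0) (c : ℕ)
    (hk₃ : ∀ a ∈ J₃, ∀ x : LocCoh.H (IsLocalRing.maximalIdeal A) 3 A, (f ^ c * a) • x = 0) :
    ∃ E : Submodule A (LocCoh.H (IsLocalRing.maximalIdeal A) 2 (A ⧸ Ideal.span {f ^ 1})),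
      Module.Finite A E ∧ ∀ x : LocCoh.H (IsLocalRing.maximalIdeal A) 2 (A ⧸ Ideal.span {f ^ (c + 1)}),
        Seq.Hmap (IsLocalRing.maximalIdeal A) 2 (Submodule.factor
          ((Ideal.span_singleton_le_span_singleton).2 (pow_dvd_pow f (Nat.le_add_left 1 c)))) x ∈ E := by
  set m := IsLocalRing.maximalIdeal A
  let δ₁ := Seq.δ m (f := LinearMap.lsmul A A (f ^ 1)) (g := (Ideal.span {f ^ 1}).mkQ)
    (injective_lsmul hnzd 1) (Submodule.mkQ_surjective _) (exact_lsmul (f ^ 1)) 2
  haveI hA3 : IsArtinian A (LocCoh.H m 3 A) := LCFin.Artinian.isArtinian_H 3 A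
  haveI : IsArtinian A (LocCoh.H m 2 A) := LCFin.Artinian.isArtinian_H 2 A
  have hm : ∀ J : Ideal A,
      (∀ P : PrimeSpectrum A, J ≤ P.asIdeal → f ∈ P.asIdeal → P = IsLocalRing.closedPoint A) →
      ∀ P : PrimeSpectrum A, Ideal.span {f} ⊔ J ≤ P.asIdeal → P = IsLocalRing.closedPoint A :=
    fun J hJ P hP => hJ P (le_sup_right.trans hP)
      (hP (Ideal.mem_sup_left (Ideal.mem_span_singleton_self f)))
  let K : Submodule A (LocCoh.H m 3 A) :=
    Submodule.torsionBySet A _ ((Ideal.span {f} ⊔ J₃ : Ideal A) : Set A)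
  haveI : Module.Finite A K := finite_of_killed (Ideal.span {f} ⊔ J₃) (hm J₃ hJ₃) fun a ha x =>
    Subtype.ext ((Submodule.mem_torsionBySet_iff _ _).1 x.2 ⟨a, ha⟩)
  refine ⟨K.comap δ₁, ?_, fun x => ?_⟩
  · let g₁ := Seq.Hmap m 2 (Ideal.span {f ^ 1} : Ideal A).mkQ
    haveI : Module.Finite A (LinearMap.range g₁) := by
      haveI : IsArtinian A (LinearMap.range g₁) :=
        isArtinian_of_surjective _ _ g₁.surjective_rangeRestrict
      refine finite_of_killed (Ideal.span {f} ⊔ J₂) (hm J₂ hJ₂) fun a ha z => ?_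
      obtain ⟨b, hb, d, hd, rfl⟩ := Submodule.mem_sup.1 ha
      obtain ⟨_, y, rfl⟩ := z
      refine Subtype.ext ?_
      show (b + d) • g₁ y = 0
      rw [add_smul, ← map_smul g₁ d, hk₂ d hd y, map_zero, add_zero, ← Seq.Hmap_lsmul]
      obtain ⟨e, rfl⟩ := Ideal.mem_span_singleton'.1 hb
      rw [show LinearMap.lsmul A (A ⧸ (Ideal.span {f ^ 1} : Ideal A)) (e * f) = 0 by
        refine LinearMap.ext fun (z : A ⧸ (Ideal.span {f ^ 1} : Ideal A)) => ?_
        obtain ⟨z, rfl⟩ := Submodule.Quotient.mk_surjective (Ideal.span {f ^ 1} : Ideal A) z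
        show (e * f) • (Submodule.Quotient.mk z : A ⧸ (Ideal.span {f ^ 1} : Ideal A)) = 0
        rw [← Submodule.Quotient.mk_smul, Submodule.Quotient.mk_eq_zero, pow_one]
        exact Ideal.mem_span_singleton'.2 ⟨e * z, by rw [smul_eq_mul]; ring⟩]
      exact LinearMap.congr_fun (congrArg ModuleCat.Hom.hom
        ((localCohomology m 2).map_zero _ _)) _
    haveI : IsNoetherian A K := inferInstance
    let α : LinearMap.range g₁ →ₗ[A] K.comap δ₁ :=
      (LinearMap.range g₁).subtype.codRestrict _ fun z => by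
        obtain ⟨y, hy⟩ := z.2
        rw [Submodule.mem_comap, Submodule.subtype_apply, ← hy,
          (Seq.exact_map_δ m (injective_lsmul hnzd 1) (Submodule.mkQ_surjective _)
            (exact_lsmul (f ^ 1)) 2).apply_apply_eq_zero]
        exact K.zero_mem
    let β : K.comap δ₁ →ₗ[A] K := δ₁.restrict fun z hz => hz
    haveI : IsNoetherian A (K.comap δ₁) := by
      refine isNoetherian_of_range_eq_ker α β (le_antisymm ?_ ?_)
      · rintro _ ⟨z, rfl⟩
        obtain ⟨y, hy⟩ := z.2
        refine Subtype.ext ?_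
        show δ₁ z.1 = 0
        rw [← hy]
        exact (Seq.exact_map_δ m (injective_lsmul hnzd 1) (Submodule.mkQ_surjective _)
          (exact_lsmul (f ^ 1)) 2).apply_apply_eq_zero y
      · intro z hz
        obtain ⟨y, hy⟩ := (Seq.exact_map_δ m (injective_lsmul hnzd 1) (Submodule.mkQ_surjective _)
          (exact_lsmul (f ^ 1)) 2 z.1).1 (congrArg Subtype.val hz)
        exact ⟨⟨_, y, rfl⟩, Subtype.ext hy⟩
    infer_instance
  · show δ₁ _ ∈ K
    rw [δ_red hnzd c 2 x, Submodule.mem_torsionBySet_iff]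
    rintro ⟨a, ha⟩
    obtain ⟨b, hb, d, hd, rfl⟩ := Submodule.mem_sup.1 ha
    obtain ⟨e, rfl⟩ := Ideal.mem_span_singleton'.1 hb
    show (e * f + d) • f ^ c • _ = (0 : LocCoh.H m (2 + 1) A)
    rw [smul_smul, add_mul, add_smul, mul_comm d, hk₃ d hd, add_zero, mul_assoc, ← pow_succ',
      mul_smul, ← Seq.Hmap_lsmul m (2 + 1) (f ^ (c + 1)),
      (Seq.exact_δ_map m (injective_lsmul hnzd (c + 1)) (Submodule.mkQ_surjective _)
        (exact_lsmul (f ^ (c + 1))) 2).apply_apply_eq_zero, smul_zero]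

end Groth.Agent.H78.PrincipalAlg.LCImage
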