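import Groth.Agent.H78.PrincipalAlg.Step

/-!
# The boundaries of a regular formal module come from high levels
-/

set_option autoImplicit false
set_option linter.style.haveILetI false
set_option linter.unusedSectionVars false

noncomputable section

universe u

open CategoryTheory CategoryTheory.Limits AlgebraicGeometry Opposite TopologicalSpace

namespace Groth.Agent.H78.PrincipalAlg

open Groth.Agent.Lib Groth.Agent.H78.Formal.Sections Groth.Agent.Lib.Curves.LES
open Groth.Agent.H78.FormalFun.Basic (H)
open Groth.Agent.H78.Formal.Principal (smulMod_mul)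

variable {A : Type u} [CommRing A] {X : Scheme.{u}} [X.Over (Spec (CommRingCat.of A))]
  {f : A} {G : ℕᵒᵖ ⥤ X.Modules} (hG : _root_.Formal.IsCohFormal (Ideal.span {f}) G)
  (hr : IsRegularSys f G)

/-- Multiplication by `f^k` from level `c`. -/
def upIter (c : ℕ) : ∀ k : ℕ, G.obj (op c) ⟶ G.obj (op (c + k))
  | 0 => 𝟙 _
  | k + 1 => upIter c k ≫ incl hG (c + k)

lemma t_upIter (c : ℕ) : ∀ k : ℕ, t G (Nat.le_add_right c k) ≫ upIter hG c k =
    _root_.Formal.smulMod A (G.obj (op (c + k))) (f ^ k)
  | 0 => by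
    rw [upIter, pow_zero, FormalFun.Basic.smulMod_one, Category.comp_id]
    exact t_refl G c _
  | k + 1 => by
    show t G (show c ≤ c + k + 1 by omega) ≫ upIter hG c k ≫ incl hG (c + k) =
      _root_.Formal.smulMod A (G.obj (op (c + k + 1))) (f ^ (k + 1))
    rw [← t_t G (Nat.le_add_right c k) (Nat.le_succ (c + k)), Category.assoc,
      ← Category.assoc (t G (Nat.le_add_right c k)), t_upIter c k, smulMod_comp, ← Category.assoc,
      t_incl, ← smulMod_mul, ← pow_succ']

include hr in
lemma mono_upIter (c : ℕ) : ∀ k, Mono (upIter hG c k)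
  | 0 => inferInstanceAs (Mono (𝟙 _))
  | k + 1 => by
    haveI := mono_upIter c k
    haveI := mono_incl hG hr (c + k)
    exact mono_comp _ _

lemma upIter_t (c n : ℕ) : upIter hG c (n + 1) ≫ t G (show n ≤ c + (n + 1) by omega) = 0 := by
  haveI := Formal.Sys.epi_map hG (Nat.le_add_right c (n + 1))
  rw [← cancel_epi (t G (Nat.le_add_right c (n + 1))), ← Category.assoc, t_upIter, comp_zero,
    smulMod_comp]
  refine (congrArg (t G (show n ≤ c + (n + 1) by omega) ≫ ·) (hG.2.1 n _ ?_)).trans comp_zero
  exact Ideal.pow_mem_pow (Ideal.mem_span_singleton_self f) _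

lemma upIter_comm (c n : ℕ) : upIter hG c (n + 1) ≫ t G (show n + 1 ≤ c + (n + 1) by omega) =
    t G (Nat.zero_le c) ≫ up hG n := by
  haveI := Formal.Sys.epi_map hG (Nat.le_add_right c (n + 1))
  rw [← cancel_epi (t G (Nat.le_add_right c (n + 1))), ← Category.assoc, t_upIter, smulMod_comp,
    ← Category.assoc, t_t, ← t_t G (Nat.zero_le (n + 1)) (show n + 1 ≤ c + (n + 1) by omega),
    Category.assoc, t_up]

include hr in
lemma long_shortExact (c n : ℕ) : (ShortComplex.mk _ _ (upIter_t hG c n)).ShortExact := by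
  haveI := (hG.1 c).1
  haveI := (hG.1 n).1
  haveI := (hG.1 (c + (n + 1))).1
  haveI := mono_upIter hG hr c (n + 1)
  have hle : n ≤ c + (n + 1) := by omega
  haveI := Formal.Sys.epi_map hG hle
  refine ShortComplex.ShortExact.mk' ?_ inferInstance inferInstance
  refine (ShortComplex.exact_iff_kernel_ι_comp_cokernel_π_zero _).2 ?_
  haveI := QCoh.Closure.isQCoh_kernel (t G hle)
  refine hom_ext_affine fun W hW s => ?_
  set x := (kernel.ι (t G hle)).app W s with hx
  have h0 : (t G hle).app W x = 0 :=
    ConcreteCategory.congr_hom (congrArg (fun χ => χ.app W) (kernel.condition (t G hle))) s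
  obtain ⟨w, hw⟩ := (mem_span_pow_smul (n + 1) x).1 (((Formal.Sys.map_spec hG hle hW).2 x).1 h0)
  have h1 : (upIter hG c (n + 1)).app W ((t G (Nat.le_add_right c (n + 1))).app W w) = x := by
    refine (ConcreteCategory.congr_hom (congrArg (fun χ => χ.app W) (t_upIter hG c (n + 1))) w).trans ?_
    rw [hw, smulMod_app, map_pow]
  show (cokernel.π (upIter hG c (n + 1))).app W x = 0
  rw [← h1]
  exact ConcreteCategory.congr_hom (congrArg (fun χ => χ.app W) (cokernel.condition (upIter hG c (n + 1)))) _

/-- The map from the long sequence to the short one. -/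
def longMap (c n : ℕ) : ShortComplex.mk _ _ (upIter_t hG c n) ⟶ seq hG n where
  τ₁ := t G (Nat.zero_le c)
  τ₂ := t G (show n + 1 ≤ c + (n + 1) by omega)
  τ₃ := 𝟙 _
  comm₁₂ := (upIter_comm hG c n).symm
  comm₂₃ := (t_t G (Nat.le_succ n) _).trans (Category.comp_id _).symm

include hr in
/-- Every boundary comes from level `c`. -/
lemma δK_mem_range (c n : ℕ) (z : Coh.HH X (G.obj (op n)) 0) :
    δK A (seq_shortExact hG hr n) 0 1 rfl z ∈
      LinearMap.range (H (A := A) 1 (t G (Nat.zero_le c))) := by
  refine ⟨δK A (long_shortExact hG hr c n) 0 1 rfl z, ?_⟩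
  refine (FormalFun.Principal.δK_natural (long_shortExact hG hr c n) (seq_shortExact hG hr n)
    (longMap hG c n) 0 1 rfl z).symm.trans ?_
  exact congrArg _ (LinearMap.congr_fun (mapK_id A (G.obj (op n)) 0) z)

end Groth.Agent.H78.PrincipalAlg
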