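import Groth.Agent.H78.PrincipalAlg.SecTower
import Groth.Agent.H78.PrincipalAlg.Long

/-!
# Algebraisation on an open of an affine scheme of formal modules regular for a principal ideal
-/

set_option autoImplicit false
set_option linter.style.haveILetI false
set_option linter.unusedSectionVars false

noncomputable section

universe u

open CategoryTheory CategoryTheory.Limits AlgebraicGeometry Opposite TopologicalSpace

namespace Groth.Agent.H78.PrincipalAlg

open Groth.Agent.Lib Groth.Agent.H78.Formal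

variable {A : Type u} [CommRing A] {U : (Spec (CommRingCat.of A)).Opens} [IsNoetherianRing A] {f : A}
  {G : ℕᵒᵖ ⥤ (U : Scheme.{u}).Modules}
  (hG : _root_.Formal.IsCohFormal (Ideal.span {f}) G) (hr : IsRegularSys f G)

/-- A linear map as a morphism of modules. -/
abbrev homOf {P Q : ModuleCat.{u} A} (φ : P →ₗ[A] Q) : P ⟶ Q := ModuleCat.ofHom φ

lemma tower_tr {n m : ℕ} (h : n ≤ m) : (tower hG hr).tr h = mapU (t G h) := rfl

/-- The transition maps of the tower as morphisms. -/
abbrev tMor (G : ℕᵒᵖ ⥤ (U : Scheme.{u}).Modules) {n m : ℕ} (h : n ≤ m) :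
    secU (G.obj (op m)) ⟶ secU (G.obj (op n)) :=
  (_root_.Algz.sectMod A U G).map (homOfLE h).op

lemma tMor_hom {n m : ℕ} (h : n ≤ m) : (tMor G h).hom = mapU (t G h) := rfl

/-- A tower whose obstructions are known to lie in a submodule. -/
def Tower.restrictObs {R : Type u} [CommRing R] {r : R} {X : ℕ → Type u} [∀ n, AddCommGroup (X n)]
    [∀ n, Module R (X n)] {E : Type u} [AddCommGroup E] [Module R E] (T : Tower R r X E)
    (E₀ : Submodule R E) (h : ∀ n x, T.obs n x ∈ E₀) : Tower R r X E₀ where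
  tr := T.tr
  tr_tr := T.tr_tr
  tr_refl := T.tr_refl
  up := T.up
  up_injective := T.up_injective
  up_tr := T.up_tr
  tr_up := T.tr_up
  tr_up_bottom := T.tr_up_bottom
  bottom := T.bottom
  kill := T.kill
  obs n := (T.obs n).codRestrict E₀ (h n)
  obs_up n x := Subtype.ext (T.obs_up n x)
  lift n x hx := T.lift n x (congrArg Subtype.val hx)

include hG hr in
/-- A formal module regular for `f` with finite bottom sections is the completion of a coherent
module as soon as some level `c` has finite image in the first cohomology of the bottom. -/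
theorem exists_completion_iso_of_range [IsAdicComplete (Ideal.span {f}) A]
    (h0 : Module.Finite A (Coh.HH (U : Scheme.{u}) (G.obj (op 0)) 0))
    (c₀ : ℕ) (h1 : Module.Finite A
      (LinearMap.range (FormalFun.Basic.H (A := A) 1 (t G (Nat.zero_le c₀))))) :
    ∃ F : (U : Scheme.{u}).Modules, Coh.IsCoh F ∧
      Nonempty (_root_.Formal.completion (Ideal.span {f}) F ≅ G) := by
  haveI := h1
  haveI : IsNoetherian A (LinearMap.range (FormalFun.Basic.H (A := A) 1 (t G (Nat.zero_le c₀)))) :=
    @isNoetherian_of_isNoetherianRing_of_finite A _ _ _ _ _ h1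
  let T := (tower hG hr).restrictObs _ fun n x => δK_mem_range hG hr c₀ n ((e0 (G.obj (op n))).symm x)
  haveI : Module.Finite A (secU (G.obj (op 0))) := by haveI := h0; exact Module.Finite.equiv (e0 (G.obj (op 0)))
  haveI := T.finite_lim
  obtain ⟨c, hc⟩ := T.exists_range_le
  obtain ⟨e⟩ := SectTower.nonempty_iso U G hG
  let N : ModuleCat.{u} A := ModuleCat.of A T.lim
  let q : ∀ n, N ⟶ secU (G.obj (op n)) := fun n => homOf (P := N) (Q := secU (G.obj (op n))) (T.proj n)
  have hq : ∀ n, q (n + 1) ≫ tMor G (Nat.le_succ n) = q n := fun n =>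
    ModuleCat.hom_ext (LinearMap.ext fun x => by
      have := T.proj_tr n x
      exact this)
  let v : ∀ n, (SectTower.Θ U).obj (secU (G.obj (op n))) ⟶ G.obj (op n) := fun n => e.hom.app (op n)
  have hv : ∀ n, (SectTower.Θ U).map (tMor G (Nat.le_succ n)) ≫ v n = v (n + 1) ≫ t G (Nat.le_succ n) :=
    fun n => e.hom.naturality (homOfLE (Nat.le_succ n)).op
  haveI hviso : ∀ n, IsIso (v n) := fun n => inferInstanceAs (IsIso (e.hom.app (op n)))
  let u : ∀ n, (SectTower.Θ U).obj N ⟶ G.obj (op n) := fun n => (SectTower.Θ U).map (q n) ≫ v n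
  refine ⟨(SectTower.Θ U).obj N, SectTower.isCoh_Θ U N,
    Algebraize.nonempty_completion_iso u (fun n => ?_) fun n => ?_⟩
  · show ((SectTower.Θ U).map (q (n + 1)) ≫ v (n + 1)) ≫ t G (Nat.le_succ n) = _
    rw [Category.assoc, ← hv, ← Category.assoc, ← Functor.map_comp, hq n]
  haveI hepi : Epi ((SectTower.Θ U).map (q n)) :=
    SectTower.epi_of_range_le (tMor G (show n ≤ n + c + 1 by omega)) (q n)
      (by
        have := hc n
        exact this)
      (SectTower.epi_Θ_tr U G e hG (show n ≤ n + c + 1 by omega))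
  haveI : Epi (u n) := epi_comp _ _
  let K := Ideal.span {f} ^ (n + 1)
  have hfK : f ^ (n + 1) ∈ K := Ideal.pow_mem_pow (Ideal.mem_span_singleton_self f) _
  have h : _root_.Formal.smulFamily K ((SectTower.Θ U).obj N) ≫ u n = 0 :=
    (PullSys.family_comp_iff _).mpr fun a ha => by
      rw [Sections.smulMod_comp, hG.2.1 n a ha, comp_zero]
  refine ⟨h, ?_⟩
  let p : N ⟶ N := homOf (P := N) (Q := N) (f ^ (n + 1) • (LinearMap.id : N →ₗ[A] N))
  have hpq : p ≫ q n = 0 := ModuleCat.hom_ext (LinearMap.ext fun x => by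
    show T.proj n (f ^ (n + 1) • x) = 0
    exact (T.proj_eq_zero_iff n _).2 ⟨x, rfl⟩)
  have hex : (ShortComplex.mk p (q n) hpq).Exact :=
    (ShortComplex.moduleCat_exact_iff _).2 fun x hx => by
      obtain ⟨y, hy⟩ := (T.proj_eq_zero_iff n x).1 hx
      exact ⟨y, hy.symm⟩
  have hex' := Theta.exact_map (R := CommRingCat.of A) U hex
  let π := cokernel.π (_root_.Formal.smulFamily K ((SectTower.Θ U).obj N))
  have hkill : (SectTower.Θ U).map p ≫ π = 0 := by
    rw [← SectTower.smulMod_Θ]
    exact Sections.smulMod_π _ _ hfK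
  obtain ⟨ψ, hψ⟩ : ∃ ψ, (SectTower.Θ U).map (q n) ≫ ψ = π :=
    haveI : (Theta.Θ (R := CommRingCat.of A) U).PreservesZeroMorphisms :=
      ⟨fun M M' => Theta.map_zero' U M M'⟩
    haveI he : Epi ((ShortComplex.mk p (q n) hpq).map (Theta.Θ (R := CommRingCat.of A) U)).g := hepi
    ⟨@ShortComplex.Exact.desc _ _ _ _ _ hex' _ π hkill he, @ShortComplex.Exact.g_desc _ _ _ _ _ hex' _ π hkill he⟩
  refine ⟨⟨inv (v n) ≫ ψ, ?_, ?_⟩⟩
  · rw [← cancel_epi π, cokernel.π_desc_assoc, Category.comp_id]
    show ((SectTower.Θ U).map (q n) ≫ v n) ≫ inv (v n) ≫ ψ = _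
    rw [Category.assoc, IsIso.hom_inv_id_assoc, hψ]
  · rw [← cancel_epi (u n), Category.comp_id]
    show ((SectTower.Θ U).map (q n) ≫ v n) ≫ (inv (v n) ≫ ψ) ≫ _ = _
    rw [Category.assoc, Category.assoc, IsIso.hom_inv_id_assoc, ← Category.assoc, hψ, cokernel.π_desc]

include hG hr in
/-- A formal module regular for `f` with finite bottom cohomology in degrees `0` and `1` is the
completion of a coherent module. -/
theorem exists_completion_iso [IsAdicComplete (Ideal.span {f}) A]
    (h0 : Module.Finite A (Coh.HH (U : Scheme.{u}) (G.obj (op 0)) 0))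
    (h1 : Module.Finite A (Coh.HH (U : Scheme.{u}) (G.obj (op 0)) 1)) :
    ∃ F : (U : Scheme.{u}).Modules, Coh.IsCoh F ∧
      Nonempty (_root_.Formal.completion (Ideal.span {f}) F ≅ G) := by
  haveI := h1
  exact exists_completion_iso_of_range hG hr h0 0 inferInstance

end Groth.Agent.H78.PrincipalAlg
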