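import Groth.Agent.Lib.Adic.Complete
import Mathlib.RingTheory.Noetherian.Basic

/-!
# Towers regular for a principal ideal

Pure algebra behind the algebraisation of formal modules without torsion: if the obstructions to
lifting one step lie in a fixed Noetherian module, the images stabilise uniformly and the compatible
families form a finite module over a complete base.
-/

set_option autoImplicit false

noncomputable section

universe u

namespace Groth.Agent.H78.PrincipalAlg

open Groth.Agent.Lib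

/-- A tower of modules with `f`-multiplication maps upwards and obstructions in `E`. -/
structure Tower (A : Type u) [CommRing A] (f : A) (X : ℕ → Type u) [∀ n, AddCommGroup (X n)]
    [∀ n, Module A (X n)] (E : Type u) [AddCommGroup E] [Module A E] where
  tr : ∀ {n m : ℕ}, n ≤ m → (X m →ₗ[A] X n)
  tr_tr : ∀ {n m l : ℕ} (h : n ≤ m) (h' : m ≤ l) (x : X l), tr h (tr h' x) = tr (h.trans h') x
  tr_refl : ∀ (n : ℕ) (x : X n), tr (le_refl n) x = x
  up : ∀ n, X n →ₗ[A] X (n + 1)
  up_injective : ∀ n, Function.Injective (up n)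
  up_tr : ∀ n (x : X (n + 1)), up n (tr (Nat.le_succ n) x) = f • x
  tr_up : ∀ n (x : X (n + 1)), tr (Nat.le_succ (n + 1)) (up (n + 1) x) = up n (tr (Nat.le_succ n) x)
  tr_up_bottom : ∀ n (x : X n), tr (Nat.zero_le (n + 1)) (up n x) = 0
  bottom : ∀ n (x : X (n + 1)), tr (Nat.zero_le (n + 1)) x = 0 → ∃ y, up n y = x
  kill : ∀ n (x : X n), f ^ (n + 1) • x = 0
  obs : ∀ n, X n →ₗ[A] E
  obs_up : ∀ n (x : X n), obs (n + 1) (up n x) = obs n x
  lift : ∀ n (x : X n), obs n x = 0 → ∃ y, tr (Nat.le_succ n) y = x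

namespace Tower

variable {A : Type u} [CommRing A] {f : A} {X : ℕ → Type u} [∀ n, AddCommGroup (X n)]
  [∀ n, Module A (X n)] {E : Type u} [AddCommGroup E] [Module A E] (T : Tower A f X E)

/-- Iterates of `up`. -/
def upn (n : ℕ) : ∀ k : ℕ, X n →ₗ[A] X (n + k)
  | 0 => LinearMap.id
  | k + 1 => (T.up (n + k)).comp (upn n k)

lemma obs_upn (n k : ℕ) (x : X n) : T.obs (n + k) (T.upn n k x) = T.obs n x := by
  induction k with
  | zero => rfl
  | succ k ih => exact (T.obs_up (n + k) _).trans ih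

lemma tr_up_le : ∀ {l m : ℕ} (h : m ≤ l) (x : X l),
    T.tr (Nat.succ_le_succ h) (T.up l x) = T.up m (T.tr h x) := by
  intro l m h
  induction h with
  | refl => intro x; rw [T.tr_refl, T.tr_refl]
  | @step l h ih =>
    intro x
    rw [← T.tr_tr (Nat.succ_le_succ h) (Nat.le_succ (l + 1)) (T.up (l + 1) x), T.tr_up, ih, T.tr_tr]

lemma tr_upn : ∀ {n k m : ℕ} (h : m ≤ n + k), m + 1 ≤ k → ∀ x : X n, T.tr h (T.upn n k x) = 0 := by
  intro n k
  induction k with
  | zero => intro m _ hm; omega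
  | succ k ih =>
    intro m h hm x
    cases m with
    | zero => exact T.tr_up_bottom (n + k) _
    | succ m =>
      refine (T.tr_up_le (show m ≤ n + k by omega) (T.upn n k x)).trans ?_
      rw [ih (show m ≤ n + k by omega) (by omega) x, map_zero]

/-- Images stabilise uniformly. -/
theorem exists_stable [IsNoetherian A E] : ∃ c : ℕ, ∀ n m : ℕ, ∀ hm : n + c + 1 ≤ m,
    ∀ x : X m, ∃ y : X (m + 1),
      T.tr (show n ≤ m + 1 by omega) y = T.tr (show n ≤ m by omega) x := by
  let S : ℕ →o Submodule A E :=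
    ⟨fun k => LinearMap.range (T.obs k), monotone_nat_of_le_succ fun k z ⟨x, hx⟩ =>
      ⟨T.up k x, (T.obs_up k x).trans hx⟩⟩
  obtain ⟨c, hc⟩ := monotone_stabilizes_iff_noetherian.mpr (inferInstance : IsNoetherian A E) S
  refine ⟨c, fun n m hm x => ?_⟩
  obtain ⟨k, rfl⟩ : ∃ k, m = c + k := ⟨m - c, by omega⟩
  obtain ⟨z, hz⟩ : T.obs (c + k) x ∈ LinearMap.range (T.obs c) := by
    have h' : LinearMap.range (T.obs c) = LinearMap.range (T.obs (c + k)) :=
      hc (c + k) (Nat.le_add_right c k)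
    rw [h']
    exact LinearMap.mem_range_self _ x
  obtain ⟨y, hy⟩ := T.lift (c + k) (x - T.upn c k z) (by rw [map_sub, obs_upn, hz, sub_self])
  refine ⟨y, ?_⟩
  rw [← T.tr_tr (show n ≤ c + k by omega) (Nat.le_succ (c + k)) y, hy, map_sub,
    T.tr_upn (show n ≤ c + k by omega) (by omega), sub_zero]

/-- The compatible families. -/
def lim : Submodule A (∀ n, X n) where
  carrier := {x | ∀ n, T.tr (Nat.le_succ n) (x (n + 1)) = x n}
  add_mem' := fun {a b} ha hb n => (map_add _ (a (n + 1)) (b (n + 1))).trans (congrArg₂ (· + ·) (ha n) (hb n))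
  zero_mem' := fun _ => map_zero _
  smul_mem' := fun c a ha n => (map_smul _ c (a (n + 1))).trans (congrArg (c • ·) (ha n))

/-- The projections. -/
def proj (n : ℕ) : T.lim →ₗ[A] X n := (LinearMap.proj n).comp T.lim.subtype

lemma proj_tr (n : ℕ) (x : T.lim) : T.tr (Nat.le_succ n) (T.proj (n + 1) x) = T.proj n x := x.2 n

lemma proj_le {n m : ℕ} (h : n ≤ m) (x : T.lim) : T.tr h (T.proj m x) = T.proj n x := by
  induction h with
  | refl => rw [T.tr_refl]
  | @step m h ih => rw [← T.tr_tr h (Nat.le_succ m), T.proj_tr, ih]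

/-- What lifts far enough lifts to a compatible family. -/
theorem exists_range_le [IsNoetherian A E] : ∃ c : ℕ, ∀ n : ℕ,
    LinearMap.range (T.tr (show n ≤ n + c + 1 by omega)) ≤ LinearMap.range (T.proj n) := by
  obtain ⟨c, hc⟩ := T.exists_stable
  refine ⟨c, fun n => ?_⟩
  rintro _ ⟨x₀, rfl⟩
  have hs : ∀ m (x : X (n + m + c + 1)), ∃ y : X (n + (m + 1) + c + 1),
      T.tr (show n + m ≤ n + (m + 1) + c + 1 by omega) y =
        T.tr (show n + m ≤ n + m + c + 1 by omega) x := fun m x => by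
    obtain ⟨y, hy⟩ := hc (n + m) (n + m + c + 1) le_rfl x
    exact ⟨T.tr (show n + (m + 1) + c + 1 ≤ n + m + c + 1 + 1 by omega) y, by rw [T.tr_tr]; exact hy⟩
  choose g hg using hs
  let z : ∀ m, X (n + m + c + 1) := fun m =>
    Nat.rec (motive := fun m => X (n + m + c + 1)) x₀ g m
  have hz : ∀ m k (hk : k ≤ n + m), T.tr (show k ≤ n + (m + 1) + c + 1 by omega) (z (m + 1)) =
      T.tr (show k ≤ n + m + c + 1 by omega) (z m) := fun m k hk => by
    rw [← T.tr_tr hk (show n + m ≤ n + (m + 1) + c + 1 by omega) (z (m + 1)),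
      ← T.tr_tr hk (show n + m ≤ n + m + c + 1 by omega) (z m)]
    exact congrArg _ (hg m (z m))
  have hcongr : ∀ (k a b : ℕ) (_ : a = b) (h : k ≤ n + a + c + 1) (h' : k ≤ n + b + c + 1),
      T.tr h (z a) = T.tr h' (z b) := fun k a b hab h h' => by subst hab; rfl
  let w : ∀ k, X k := fun k => T.tr (show k ≤ n + (k - n) + c + 1 by omega) (z (k - n))
  have hw : w ∈ T.lim := fun k => by
    refine (T.tr_tr (Nat.le_succ k) _ _).trans ?_
    by_cases hk : n ≤ k
    · exact (hcongr k (k + 1 - n) (k - n + 1) (by omega) _ (by omega)).trans (hz (k - n) k (by omega))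
    · exact hcongr k (k + 1 - n) (k - n) (by omega) _ _
  exact ⟨⟨w, hw⟩, hcongr n (n - n) 0 (Nat.sub_self n) _ (show n ≤ n + 0 + c + 1 by omega)⟩

/-- A family vanishing at the bottom is a multiple of `f`. -/
lemma exists_div (x : T.lim) (hx : T.proj 0 x = 0) :
    ∃ y : T.lim, x = f • y ∧ ∀ m, T.up m (T.proj m y) = T.proj (m + 1) x := by
  choose y hy using fun m => T.bottom m (T.proj (m + 1) x) ((T.proj_le _ x).trans hx)
  have hyc : y ∈ T.lim := fun m => T.up_injective m (by
    rw [← T.tr_up, hy, hy]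
    exact T.proj_tr (m + 1) x)
  refine ⟨⟨y, hyc⟩, Subtype.ext (funext fun m => ?_), hy⟩
  show T.proj m x = f • y m
  cases m with
  | zero =>
    rw [hx]
    exact (by simpa using T.kill 0 (y 0) : f • y 0 = 0).symm
  | succ m =>
    rw [← hy m, ← hyc m, T.up_tr]

/-- A family vanishing at level `n` is a multiple of `f^(n+1)`. -/
theorem proj_eq_zero_iff (n : ℕ) (x : T.lim) :
    T.proj n x = 0 ↔ ∃ y : T.lim, x = f ^ (n + 1) • y := by
  refine ⟨fun hx => ?_, fun ⟨y, hy⟩ => by rw [hy, map_smul, T.kill]⟩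
  induction n generalizing x with
  | zero =>
    obtain ⟨y, hy, -⟩ := T.exists_div x hx
    exact ⟨y, by rw [hy, zero_add, pow_one]⟩
  | succ n ih =>
    have h0' : T.proj 0 x = 0 := by rw [← T.proj_le (Nat.zero_le (n + 1)) x, hx, map_zero]
    obtain ⟨y, hy, hym⟩ := T.exists_div x h0'
    obtain ⟨z, hz⟩ := ih y (T.up_injective n (((hym n).trans hx).trans (map_zero _).symm))
    exact ⟨z, by rw [hy, hz, smul_smul, ← pow_succ']⟩

/-- Over a complete base the families form a finite module. -/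
theorem finite_lim [IsNoetherianRing A] [IsAdicComplete (Ideal.span {f}) A] [Module.Finite A (X 0)] :
    Module.Finite A T.lim := by
  have hsm : ∀ (k : ℕ) (x : T.lim),
      x ∈ (Ideal.span {f} ^ k • ⊤ : Submodule A T.lim) ↔ ∃ y, x = f ^ k • y := fun k x => by
    rw [Ideal.span_singleton_pow, Submodule.ideal_span_singleton_smul,
      Submodule.mem_smul_pointwise_iff_exists]
    exact ⟨fun ⟨w, _, h⟩ => ⟨w, h.symm⟩, fun ⟨w, h⟩ => ⟨w, trivial, h.symm⟩⟩
  haveI : IsHausdorff (Ideal.span {f}) T.lim := ⟨fun x hx => Subtype.ext (funext fun n =>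
    (T.proj_eq_zero_iff n x).2 ((hsm (n + 1) x).1 (SModEq.zero.1 (hx (n + 1)))))⟩
  refine Adic.Complete.finite_of_finite_quotient (I := Ideal.span {f}) ?_
  have hker : LinearMap.ker (T.proj 0) = (Ideal.span {f} • ⊤ : Submodule A T.lim) := by
    ext x
    rw [LinearMap.mem_ker, T.proj_eq_zero_iff, ← hsm, zero_add, pow_one]
  rw [← hker]
  exact Module.Finite.equiv (T.proj 0).quotKerEquivRange.symm

end Tower

end Groth.Agent.H78.PrincipalAlg
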