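import Groth.Agent.H78.PrincipalAlg.Step
import Groth.Agent.H78.PrincipalAlg.Tower
import Groth.Agent.H78.Formal.SectTower
import Groth.Agent.Lib.Curves.GlobalSections
import Groth.Agent.H78.Faithful.Main

/-!
# Algebraisation on an open of an affine scheme of formal modules regular for a principal ideal
-/

set_option autoImplicit false
set_option linter.style.haveILetI false
set_option linter.unusedSectionVars false

noncomputable section

universe u

open CategoryTheory CategoryTheory.Limits AlgebraicGeometry Opposite TopologicalSpace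

namespace Groth.Agent.H78.PrincipalAlg

open Groth.Agent.Lib Groth.Agent.H78.Formal Groth.Agent.H78.Formal.Sections Groth.Agent.Lib.Curves.LES
open Groth.Agent.H78.FormalFun.Basic (H H_smulMod)

variable {A : Type u} [CommRing A] {U : (Spec (CommRingCat.of A)).Opens}

/-- The sections over `U` of a module, as a module over `A`. -/
abbrev secU (M : (U : Scheme.{u}).Modules) : ModuleCat.{u} A :=
  (Scheme.Modules.pushforward U.ι ⋙ moduleSpecΓFunctor (R := CommRingCat.of A)).obj M

/-- The map on sections over `U`. -/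
abbrev mapU {M N : (U : Scheme.{u}).Modules} (φ : M ⟶ N) : secU M →ₗ[A] secU N :=
  ((Scheme.Modules.pushforward U.ι ⋙ moduleSpecΓFunctor (R := CommRingCat.of A)).map φ).hom

lemma smul_secU (M : (U : Scheme.{u}).Modules) (a : A) (x : secU M) :
    a • x = (_root_.Formal.smulMod A M a).app ⊤ x := by
  letI : (Spec (CommRingCat.of A)).Over (Spec (CommRingCat.of A)) := ⟨𝟙 _⟩
  refine (Algebraize.smulMod_specΓ ((Scheme.Modules.pushforward U.ι).obj M) a x).symm.trans ?_
  rw [← PullSys.smulMod_pushforward (Canonical.hcompat U)]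
  rfl

/-- An additive equivalence with the sections commuting with multiplications is linear. -/
def linU {H : Type u} [AddCommGroup H] [Module A H] (M : (U : Scheme.{u}).Modules)
    (E : H ≃+ Γ(M, ⊤)) (h : ∀ (a : A) (z : H), E (a • z) = (_root_.Formal.smulMod A M a).app ⊤ (E z)) :
    H ≃ₗ[A] secU M where
  toFun z := E z
  map_add' a b := E.map_add a b
  map_smul' a z := (h a z).trans (smul_secU M a (E z)).symm
  invFun x := E.symm x
  left_inv z := E.symm_apply_apply z
  right_inv x := E.apply_symm_apply x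

lemma mapU_linU {H K : Type u} [AddCommGroup H] [Module A H] [AddCommGroup K] [Module A K]
    {M N : (U : Scheme.{u}).Modules} (φ : M ⟶ N) (E : H ≃+ Γ(M, ⊤)) (F : K ≃+ Γ(N, ⊤))
    (hE : ∀ (a : A) (z : H), E (a • z) = (_root_.Formal.smulMod A M a).app ⊤ (E z))
    (hF : ∀ (a : A) (z : K), F (a • z) = (_root_.Formal.smulMod A N a).app ⊤ (F z))
    (z : H) (w : K) (hw : F w = φ.app ⊤ (E z)) : mapU φ (linU M E hE z) = linU N F hF w :=
  hw.symm

lemma h0_smul (M : (U : Scheme.{u}).Modules) (a : A) (z : Coh.HH (U : Scheme.{u}) M 0) :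
    Curves.GlobalSections.h0Equiv M (a • z) =
      (_root_.Formal.smulMod A M a).app ⊤ (Curves.GlobalSections.h0Equiv M z) := by
  rw [← H_smulMod]
  exact Faithful.Main.h0Equiv_H (A := A) (_root_.Formal.smulMod A M a) z

lemma exists_e0 : ∃ e : ∀ M : (U : Scheme.{u}).Modules, Coh.HH (U : Scheme.{u}) M 0 ≃ₗ[A] secU M,
    ∀ (M N : (U : Scheme.{u}).Modules) (φ : M ⟶ N) (z : Coh.HH (U : Scheme.{u}) M 0),
      mapU φ (e M z) = e N (H (A := A) 0 φ z) :=
  ⟨fun M => linU M (Curves.GlobalSections.h0Equiv M) (h0_smul M), fun M N φ z =>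
    mapU_linU φ (Curves.GlobalSections.h0Equiv M) (Curves.GlobalSections.h0Equiv N) (h0_smul M) (h0_smul N) z
      (H (A := A) 0 φ z) (Faithful.Main.h0Equiv_H (A := A) φ z)⟩

/-- Degree zero cohomology is the module of sections. -/
def e0 (M : (U : Scheme.{u}).Modules) : Coh.HH (U : Scheme.{u}) M 0 ≃ₗ[A] secU M :=
  (exists_e0 (U := U)).choose M

lemma mapU_e0 {M N : (U : Scheme.{u}).Modules} (φ : M ⟶ N) (z : Coh.HH (U : Scheme.{u}) M 0) :
    mapU φ (e0 M z) = e0 N (H (A := A) 0 φ z) :=
  (exists_e0 (U := U)).choose_spec M N φ z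

lemma mapU_comp {M N P : (U : Scheme.{u}).Modules} (φ : M ⟶ N) (ψ : N ⟶ P) (x : secU M) :
    mapU (φ ≫ ψ) x = mapU ψ (mapU φ x) := rfl

lemma mapU_smulMod (M : (U : Scheme.{u}).Modules) (a : A) (x : secU M) :
    mapU (_root_.Formal.smulMod A M a) x = a • x := (smul_secU M a x).symm

lemma mapU_injective {M N : (U : Scheme.{u}).Modules} (φ : M ⟶ N) [Mono φ] :
    Function.Injective (mapU φ) := fun x y h => by
  obtain ⟨z, rfl⟩ := (e0 M).surjective x
  obtain ⟨w, rfl⟩ := (e0 M).surjective y
  rw [mapU_e0, mapU_e0] at h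
  exact congrArg _ (mapK_injective_of_mono A φ ((e0 N).injective h))

lemma mapU_zero {M N : (U : Scheme.{u}).Modules} (x : secU M) : mapU (0 : M ⟶ N) x = 0 := rfl

variable [IsNoetherianRing A] {f : A} {G : ℕᵒᵖ ⥤ (U : Scheme.{u}).Modules}
  (hG : _root_.Formal.IsCohFormal (Ideal.span {f}) G) (hr : IsRegularSys f G)

/-- The tower of sections. -/
def tower : Tower A f (fun n => secU (G.obj (op n))) (Coh.HH (U : Scheme.{u}) (G.obj (op 0)) 1) where
  tr h := mapU (t G h)
  tr_tr h h' x := by rw [← mapU_comp, t_t]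
  tr_refl n x := by rw [t_refl]; rfl
  up n := mapU (incl hG n)
  up_injective n := haveI := mono_incl hG hr n; mapU_injective _
  up_tr n x := by rw [← mapU_comp, t_incl, mapU_smulMod]
  tr_up n x := by rw [← mapU_comp, incl_t]; rfl
  tr_up_bottom n x := by rw [← mapU_comp, incl_bottom]; rfl
  bottom n x hx := by
    obtain ⟨z, rfl⟩ := (e0 (G.obj (op (n + 1)))).surjective x
    rw [mapU_e0] at hx
    obtain ⟨y, hy⟩ := (exactK₂ A (bottom_shortExact hG hr n) 0 z).1
      ((e0 _).injective (hx.trans (map_zero _).symm))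
    exact ⟨e0 _ y, (mapU_e0 _ y).trans (congrArg _ hy)⟩
  kill n x := by
    rw [← mapU_smulMod, hG.2.1 n _ (Ideal.pow_mem_pow (Ideal.mem_span_singleton_self f) _)]
    rfl
  obs n := (δK A (seq_shortExact hG hr n) 0 1 rfl).comp (e0 (G.obj (op n))).symm.toLinearMap
  obs_up n x := by
    obtain ⟨z, rfl⟩ := (e0 (G.obj (op n))).surjective x
    rw [mapU_e0]
    simp only [LinearMap.comp_apply, LinearEquiv.coe_coe, LinearEquiv.symm_apply_apply]
    refine (FormalFun.Principal.δK_natural (seq_shortExact hG hr n) (seq_shortExact hG hr (n + 1))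
      (seqMap hG n) 0 1 rfl z).trans ?_
    exact LinearMap.congr_fun (mapK_id A (G.obj (op 0)) 1) _
  lift n x hx := by
    obtain ⟨y, hy⟩ := (exactK₃ A (seq_shortExact hG hr n) 0 1 rfl ((e0 (G.obj (op n))).symm x)).1 hx
    exact ⟨e0 _ y, (mapU_e0 _ y).trans ((congrArg _ hy).trans ((e0 _).apply_symm_apply x))⟩

end Groth.Agent.H78.PrincipalAlg
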